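import Cfsg.Agent.Lib.SemisimplePrimeClasses.Roots
import Cfsg.Agent.Lib.SpectrumPowers.SympBound
import Cfsg.Agent.Lib.SemisimpleCount.Unitary
import Cfsg.Agent.Lib.UnitaryConj.Similar

/-! Eigenvalues of semisimple unitary matrices, and matrices with prescribed eigenvalues. -/

set_option autoImplicit false
set_option maxHeartbeats 1000000

namespace CfsgLib.SemisimplePrimeClasses

open Polynomial Matrix

variable {K : Type*} [Field K] [Fintype K] {n q : ℕ}

/-- The eigenvalues of an invertible matrix over an algebraic closure. -/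
noncomputable def glRoots (M : GL (Fin n) K) : Multiset (AlgebraicClosure K) :=
  (M.1.map (algebraMap K (AlgebraicClosure K))).charpoly.roots

theorem glRoots_card (M : GL (Fin n) K) : Multiset.card (glRoots M) = n := by
  rw [glRoots, IsAlgClosed.card_roots_eq_natDegree, Matrix.charpoly_natDegree_eq_dim, Fintype.card_fin]

theorem prod_glRoots (M : GL (Fin n) K) :
    M.1.charpoly.map (algebraMap K (AlgebraicClosure K)) = ((glRoots M).map fun t => X - C t).prod := by
  rw [← Matrix.charpoly_map]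
  exact (IsAlgClosed.splits _).eq_prod_roots_of_monic (Matrix.charpoly_monic _)

theorem charpoly_eq_of_glRoots {M N : GL (Fin n) K} (h : glRoots M = glRoots N) :
    M.1.charpoly = N.1.charpoly :=
  Polynomial.map_injective _ (algebraMap K (AlgebraicClosure K)).injective (by
    rw [prod_glRoots, prod_glRoots, h])

theorem glRoots_eq_of_charpoly {M N : GL (Fin n) K} (h : M.1.charpoly = N.1.charpoly) :
    glRoots M = glRoots N := by
  rw [glRoots, glRoots, Matrix.charpoly_map, Matrix.charpoly_map, h]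

theorem glRoots_pow {M : GL (Fin n) K} {r : ℕ} (hM : M ^ r = 1) {t : AlgebraicClosure K}
    (ht : t ∈ glRoots M) : t ^ r = 1 := by
  haveI : Nonempty (Fin n) := by
    by_contra h
    haveI := not_nonempty_iff.1 h
    have h1 := Multiset.card_pos_iff_exists_mem.2 ⟨t, ht⟩
    rw [glRoots_card] at h1
    exact h ⟨⟨0, h1⟩⟩
  rw [glRoots, mem_roots (Matrix.charpoly_monic _).ne_zero, ← Matrix.mem_spectrum_iff_isRoot_charpoly] at ht
  have h := spectrum.subset_polynomial_aeval (M.1.map (algebraMap K (AlgebraicClosure K))) (X ^ r) ⟨t, ht, rfl⟩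
  rw [map_pow, aeval_X, ← Matrix.map_pow, ← Units.val_pow_eq_pow_val, hM, Units.val_one,
    Matrix.map_one _ (map_zero _) (map_one _), spectrum.one_eq, Set.mem_singleton_iff] at h
  simpa using h

theorem pow_eq_one_of_glRoots (p : ℕ) [Fact p.Prime] [CharP K p] {r : ℕ} (hr : 0 < r)
    {M : GL (Fin n) K} (hM : (orderOf M).Coprime p) (h : ∀ t ∈ glRoots M, t ^ r = 1) : M ^ r = 1 := by
  classical
  rcases Nat.eq_zero_or_pos n with rfl | hn
  · exact Subsingleton.elim _ _
  haveI : Nonempty (Fin n) := ⟨⟨0, hn⟩⟩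
  haveI : CharP (AlgebraicClosure K) p :=
    charP_of_injective_algebraMap (algebraMap K (AlgebraicClosure K)).injective p
  have h1 := CfsgLib.SpectrumPowers.pow_eq_one_of_roots p (M.1.map (algebraMap K (AlgebraicClosure K))) hr
    (e := n) fun t ht => ⟨h t ht, le_of_le_of_eq (Multiset.count_le_card t _) (glRoots_card M)⟩
  rw [← Matrix.map_pow, ← Matrix.map_one (algebraMap K (AlgebraicClosure K)) (map_zero _) (map_one _)] at h1
  have h2 : M ^ (p ^ Nat.clog p n * r) = 1 :=
    Units.ext (by
      rw [Units.val_pow_eq_pow_val, Units.val_one]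
      exact Matrix.map_injective (algebraMap K (AlgebraicClosure K)).injective h1)
  exact orderOf_dvd_iff_pow_eq_one.1
    ((hM.pow_right _).dvd_of_dvd_mul_left (orderOf_dvd_of_pow_eq_one h2))

theorem glRoots_ne_zero (M : GL (Fin n) K) : (0 : AlgebraicClosure K) ∉ glRoots M := fun h => by
  have := glRoots_pow (pow_orderOf_eq_one M) h
  rw [zero_pow (orderOf_pos M).ne'] at this
  exact zero_ne_one this

theorem glRoots_inv (M : GL (Fin n) K) : glRoots M⁻¹ = (glRoots M).map (·⁻¹) := by
  set ι := algebraMap K (AlgebraicClosure K)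
  have hu : IsUnit M.1.det := (Matrix.isUnit_iff_isUnit_det _).1 M.isUnit
  have h : M⁻¹.1.charpoly = C ((-1) ^ n * M.1.det⁻¹) * M.1.charpoly.reverse := by
    ext k
    rw [coeff_C_mul, coeff_reverse, Matrix.charpoly_natDegree_eq_dim, Fintype.card_fin, Matrix.coe_units_inv]
    rcases le_or_gt k n with hk | hk
    · rw [revAt_le hk, CfsgLib.SemisimpleCount.charpoly_inv_coeff _ M.isUnit (by simpa using hk), Fintype.card_fin]
    · rw [show revAt n k = k by
        show (if k ≤ n then n - k else k) = k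
        rw [if_neg (by omega)]]
      have hdeg : ∀ A : Matrix (Fin n) (Fin n) K, A.charpoly.coeff k = 0 := fun A =>
        coeff_eq_zero_of_natDegree_lt (by rw [Matrix.charpoly_natDegree_eq_dim, Fintype.card_fin]; exact hk)
      rw [hdeg, hdeg, mul_zero]
  rw [glRoots, Matrix.charpoly_map, h, Polynomial.map_mul, map_C, roots_C_mul _ (by
      rw [_root_.map_ne_zero]; exact mul_ne_zero (pow_ne_zero _ (neg_ne_zero.2 one_ne_zero)) (inv_ne_zero hu.ne_zero)),
    ← CfsgLib.SpectrumPowers.roots_reverse_prod _ (glRoots_ne_zero M), ← prod_glRoots]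
  congr 1
  ext k
  rw [coeff_map, coeff_reverse, coeff_reverse, Polynomial.natDegree_map, coeff_map]

theorem glRoots_twist (p a : ℕ) [Fact p.Prime] [CharP K p] (hq : q = p ^ a) {s : K →+* K}
    (hs : ∀ x, s x = x ^ q) (M : GL (Fin n) K) :
    glRoots (CfsgLib.SemisimpleCount.twist s M) = (glRoots M).map fun t => (t ^ q)⁻¹ := by
  haveI : CharP (AlgebraicClosure K) p :=
    charP_of_injective_algebraMap (algebraMap K (AlgebraicClosure K)).injective p
  set fr : AlgebraicClosure K →+* AlgebraicClosure K := iterateFrobenius _ p a with hfr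
  have hfrx : ∀ x, fr x = x ^ q := fun x => by rw [hfr, iterateFrobenius_def, hq]
  have h1 : (CfsgLib.SemisimpleCount.twist s M).1.map (algebraMap K (AlgebraicClosure K)) =
      (((M⁻¹).1.map (algebraMap K (AlgebraicClosure K))).map fr)ᵀ := by
    ext i j
    show algebraMap K (AlgebraicClosure K) (s ((M⁻¹).1 j i)) = fr (algebraMap K (AlgebraicClosure K) ((M⁻¹).1 j i))
    rw [hs, hfrx, map_pow]
  rw [glRoots, h1, Matrix.charpoly_transpose, Matrix.charpoly_map, (IsAlgClosed.splits _).roots_map]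
  show (glRoots M⁻¹).map fr = _
  rw [glRoots_inv, Multiset.map_map]
  exact Multiset.map_congr rfl fun t _ => by rw [Function.comp_apply, hfrx, inv_pow]

theorem twist_eq (hF : Fintype.card K = q ^ 2) {s : K →+* K} (hs : ∀ x, s x = x ^ q) (M : GL (Fin n) K) :
    (((M : Matrix (Fin n) (Fin n) K).map (fun x : K => x ^ q)).transpose)⁻¹ =
      (CfsgLib.SemisimpleCount.twist s M).1 := by
  rw [show (fun x : K => x ^ q) = ⇑s from funext fun x => (hs x).symm]
  exact Matrix.inv_eq_left_inv (CfsgLib.SemisimpleCount.twist s M).val_inv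

theorem gu_invariant (hF : Fintype.card K = q ^ 2) (p a : ℕ) [Fact p.Prime] [CharP K p] (hq : q = p ^ a)
    {s : K →+* K} (hs : ∀ x, s x = x ^ q) (g : ↥(Cfsg.GU n K q)) :
    (glRoots g.1).map (fun t => (t ^ q)⁻¹) = glRoots g.1 := by
  rw [← glRoots_twist p a hq hs]
  refine glRoots_eq_of_charpoly ?_
  obtain ⟨P, hP⟩ := (CfsgLib.UnitaryConj.similar_iff hF g.1).1 ⟨g, IsConj.refl _⟩
  rw [← twist_eq hF hs]
  have h1 : ((g.1 : Matrix (Fin n) (Fin n) K).map fun x : K => x ^ q).transpose⁻¹ = P.1 * g.1.1 * (P⁻¹).1 := by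
    rw [show P.1 * g.1.1 = _ from hP, mul_assoc, Units.mul_inv, mul_one]
  rw [h1, Matrix.coe_units_inv, Matrix.charpoly_units_conj]

/-- A unitary matrix with prescribed eigenvalues. -/
theorem exists_gu (hF : Fintype.card K = q ^ 2) (p a : ℕ) [Fact p.Prime] [CharP K p] (hq : q = p ^ a)
    {s : K →+* K} (hs : ∀ x, s x = x ^ q) {r : ℕ} (hr : 0 < r) (R : Multiset (AlgebraicClosure K))
    (hcard : Multiset.card R = n) (hinv : R.map (fun t => (t ^ q)⁻¹) = R) (hpow : ∀ t ∈ R, t ^ r = 1) :
    ∃ g : ↥(Cfsg.GU n K q), g ^ r = 1 ∧ glRoots g.1 = R := by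
  haveI : CharP (AlgebraicClosure K) p :=
    charP_of_injective_algebraMap (algebraMap K (AlgebraicClosure K)).injective p
  set ι := algebraMap K (AlgebraicClosure K) with hι
  set fr : AlgebraicClosure K →+* AlgebraicClosure K := iterateFrobenius _ p (a + a) with hfr
  have hfrx : ∀ x, fr x = x ^ Fintype.card K := fun x => by
    rw [hfr, iterateFrobenius_def, hF, hq, ← pow_mul, mul_two]
  set PΩ : (AlgebraicClosure K)[X] := (R.map fun t => X - C t).prod with hPΩ
  have hPm : PΩ.Monic := monic_multiset_prod_of_monic _ _ fun t _ => monic_X_sub_C t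
  have hR2 : R.map fr = R := by
    conv_rhs => rw [← hinv, ← hinv, Multiset.map_map]
    refine Multiset.map_congr rfl fun t _ => ?_
    rw [Function.comp_apply, hfrx, hF, inv_pow, inv_inv, ← pow_mul, sq]
  have hfix : PΩ.map fr = PΩ := by
    rw [hPΩ, Polynomial.map_multiset_prod, Multiset.map_map]
    conv_rhs => rw [← hR2, Multiset.map_map]
    exact congrArg Multiset.prod (Multiset.map_congr rfl fun t _ => by simp)
  obtain ⟨P, hP⟩ : ∃ P : K[X], P.map ι = PΩ := by
    have hl : PΩ ∈ lifts ι := (lifts_iff_coeff_lifts _).mpr fun k =>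
      CfsgLib.SpectrumPowers.mem_of_pow_eq _ (by rw [← hfrx, ← coeff_map, hfix])
    exact (mem_lifts _).mp hl
  have hmon : P.Monic := monic_of_injective ι.injective (hP ▸ hPm)
  have hdeg : P.natDegree = n := by
    rw [← natDegree_map_eq_of_injective ι.injective P, hP, hPΩ, natDegree_multiset_prod_X_sub_C_eq_card, hcard]
  have h0 : P.coeff 0 ≠ 0 := by
    intro h
    have h1 : PΩ.eval 0 = 0 := by rw [← hP, ← coeff_zero_eq_eval_zero, coeff_map, h, map_zero]
    rw [hPΩ, eval_multiset_prod, Multiset.prod_eq_zero_iff, Multiset.map_map, Multiset.mem_map] at h1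
    obtain ⟨t, ht, ht0⟩ := h1
    simp only [Function.comp_apply, eval_sub, eval_X, eval_C, zero_sub, neg_eq_zero] at ht0
    have := hpow t ht
    rw [ht0, zero_pow hr.ne'] at this
    exact zero_ne_one this
  obtain ⟨M, hM, ho⟩ := CfsgLib.SemisimpleClasses.exists_GL (p := p) P hmon hdeg h0
  have hMR : glRoots M = R := by
    rw [glRoots, Matrix.charpoly_map, hM, hP, hPΩ, roots_multiset_prod_X_sub_C]
  set B := CfsgLib.SemisimpleCount.twist s M with hB
  have hoB : (orderOf B).Coprime p := Nat.Coprime.coprime_dvd_left (orderOf_map_dvd _ M) ho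
  obtain ⟨Q, hQ⟩ := CfsgLib.SemisimpleClasses.exists_conj (CfsgLib.SemisimpleClasses.isSemisimple_of_coprime M ho)
    (CfsgLib.SemisimpleClasses.isSemisimple_of_coprime B hoB) (charpoly_eq_of_glRoots (by
      rw [hB, glRoots_twist p a hq hs, hMR, hinv]))
  obtain ⟨g, hg⟩ := (CfsgLib.UnitaryConj.similar_iff hF M).mpr ⟨Q, by rw [twist_eq hF hs]; exact hQ⟩
  obtain ⟨c, hc⟩ := _root_.isConj_iff.mp hg
  refine ⟨g, Subtype.ext ?_, ?_⟩
  · rw [SubmonoidClass.coe_pow, ← hc, conj_pow, pow_eq_one_of_glRoots p hr ho (hMR ▸ hpow), mul_one, mul_inv_cancel,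
      OneMemClass.coe_one]
  · rw [← hMR]
    refine glRoots_eq_of_charpoly ?_
    rw [← hc]
    simp only [Units.val_mul, Matrix.coe_units_inv]
    exact Matrix.charpoly_units_conj c M.1

end CfsgLib.SemisimplePrimeClasses
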