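import Cfsg.Agent.Lib.SemisimplePrimeClasses.Roots
import Cfsg.Agent.Lib.PSpGraph.Basic
import Cfsg.Agent.Lib.SemisimpleIso.Groups

/-! Classes of elements of odd prime order in symplectic groups. -/

set_option autoImplicit false
set_option maxHeartbeats 1000000

namespace CfsgLib.SemisimplePrimeClasses

open Polynomial Matrix

variable {F : Type*} [Field F] [Fintype F]

/-- The eigenvalues over an algebraic closure. -/
noncomputable def spRoots {m : ℕ} (g : Matrix.symplecticGroup (Fin m) F) : Multiset (AlgebraicClosure F) :=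
  (g.1.map (algebraMap F (AlgebraicClosure F))).charpoly.roots

theorem spRoots_card {m : ℕ} (g : Matrix.symplecticGroup (Fin m) F) : Multiset.card (spRoots g) = m + m := by
  rw [spRoots, IsAlgClosed.card_roots_eq_natDegree, Matrix.charpoly_natDegree_eq_dim, Fintype.card_sum,
    Fintype.card_fin]

theorem mem_spRoots {m : ℕ} {g : Matrix.symplecticGroup (Fin m) F} {t : AlgebraicClosure F} :
    t ∈ spRoots g ↔ t ∈ spectrum (AlgebraicClosure F) (g.1.map (algebraMap F (AlgebraicClosure F))) := by
  rw [spRoots, mem_roots (Matrix.charpoly_monic _).ne_zero, Matrix.mem_spectrum_iff_isRoot_charpoly]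

theorem spRoots_nonempty_iff {m : ℕ} (g : Matrix.symplecticGroup (Fin m) F) :
    spRoots g ≠ 0 ↔ 0 < m := by
  rw [← Multiset.card_pos, spRoots_card]
  omega

theorem pow_mem_spRoots {m : ℕ} {g : Matrix.symplecticGroup (Fin m) F} {t : AlgebraicClosure F}
    (ht : t ∈ spRoots g) (k : ℕ) : t ^ k ∈ spRoots (g ^ k) := by
  rw [mem_spRoots] at ht ⊢
  have h := spectrum.subset_polynomial_aeval (g.1.map (algebraMap F (AlgebraicClosure F))) (X ^ k) ⟨t, ht, rfl⟩
  rw [map_pow, aeval_X, ← Matrix.map_pow, ← SubmonoidClass.coe_pow] at h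
  simpa using h

theorem spRoots_one {m : ℕ} {t : AlgebraicClosure F}
    (ht : t ∈ spRoots (1 : Matrix.symplecticGroup (Fin m) F)) : t = 1 := by
  rw [spRoots, show ((1 : Matrix.symplecticGroup (Fin m) F)).1 = (1 : Matrix (Fin m ⊕ Fin m) _ F) from rfl,
    Matrix.map_one _ (map_zero _) (map_one _), Matrix.charpoly_one,
    Polynomial.roots_pow, ← C_1, roots_X_sub_C] at ht
  exact Multiset.mem_singleton.1 (Multiset.mem_of_mem_nsmul ht)

theorem spRoots_pow {m : ℕ} {g : Matrix.symplecticGroup (Fin m) F} {r : ℕ} (hg : g ^ r = 1)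
    {t : AlgebraicClosure F} (ht : t ∈ spRoots g) : t ^ r = 1 :=
  spRoots_one (hg ▸ pow_mem_spRoots ht r)

theorem spRoots_Φ {a b : ℕ} (x : Matrix.symplecticGroup (Fin a) F) (y : Matrix.symplecticGroup (Fin b) F) :
    spRoots (CfsgLib.SympBlocks.Φ a b (x, y)) = spRoots x + spRoots y := by
  set ι := algebraMap F (AlgebraicClosure F)
  have h : ((CfsgLib.SympBlocks.Φ a b (x, y)).1.map ι).charpoly = (x.1.map ι).charpoly * (y.1.map ι).charpoly := by
    show (((Matrix.fromBlocks x.1 0 0 y.1).submatrix (CfsgLib.SympBlocks.e a b) (CfsgLib.SympBlocks.e a b)).map ι).charpoly = _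
    rw [Matrix.charpoly_map, ← Matrix.charpoly_reindex (CfsgLib.SympBlocks.e a b), Matrix.reindex_apply,
      Matrix.submatrix_submatrix, Equiv.self_comp_symm, Matrix.submatrix_id_id,
      Matrix.charpoly_fromBlocks_zero₁₂, Polynomial.map_mul, ← Matrix.charpoly_map, ← Matrix.charpoly_map]
  rw [spRoots, h, roots_mul (mul_ne_zero (Matrix.charpoly_monic _).ne_zero (Matrix.charpoly_monic _).ne_zero)]
  rfl

theorem eq_one_of_roots_one (p : ℕ) [Fact p.Prime] [CharP F p] {m r : ℕ} (hr : r.Prime) (hrp : r ≠ p)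
    {g : Matrix.symplecticGroup (Fin m) F} (hg : g ^ r = 1) (h : ∀ t ∈ spRoots g, t = 1) : g = 1 := by
  classical
  rcases Nat.eq_zero_or_pos m with rfl | hm
  · exact Subsingleton.elim _ _
  haveI : Nonempty (Fin m ⊕ Fin m) := ⟨Sum.inl ⟨0, hm⟩⟩
  haveI : CharP (AlgebraicClosure F) p :=
    charP_of_injective_algebraMap (algebraMap F (AlgebraicClosure F)).injective p
  have h1 := CfsgLib.SpectrumPowers.pow_eq_one_of_roots p (g.1.map (algebraMap F (AlgebraicClosure F))) one_pos
    (e := m + m) fun t ht => ⟨by rw [pow_one]; exact h t ht,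
      le_of_le_of_eq (Multiset.count_le_card t _) (spRoots_card g)⟩
  rw [mul_one, ← Matrix.map_pow, ← Matrix.map_one (algebraMap F (AlgebraicClosure F)) (map_zero _) (map_one _)] at h1
  have h2 : g ^ (p ^ Nat.clog p (m + m)) = 1 := Subtype.ext (by
    rw [SubmonoidClass.coe_pow]
    exact Matrix.map_injective (algebraMap F (AlgebraicClosure F)).injective h1)
  refine orderOf_eq_one_iff.1 (Nat.eq_one_of_dvd_coprimes ?_ (orderOf_dvd_of_pow_eq_one hg)
    (orderOf_dvd_of_pow_eq_one h2))
  exact ((Nat.coprime_primes hr (Fact.out : p.Prime)).2 hrp).pow_right _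

theorem spRoots_invariant (p : ℕ) [Fact p.Prime] [CharP F p] {m : ℕ} (g : Matrix.symplecticGroup (Fin m) F) :
    (spRoots g).map (fun t => t ^ Fintype.card F) = spRoots g ∧ (spRoots g).map (·⁻¹) = spRoots g := by
  classical
  obtain ⟨a, -, hF⟩ := CfsgLib.PSpGraph.card_eq_pow F p
  haveI : CharP (AlgebraicClosure F) p :=
    charP_of_injective_algebraMap (algebraMap F (AlgebraicClosure F)).injective p
  set ι := algebraMap F (AlgebraicClosure F) with hι
  set Ab := g.1.map ι with hAb
  set fr : AlgebraicClosure F →+* AlgebraicClosure F := iterateFrobenius _ p a with hfr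
  have hfrx : ∀ x, fr x = x ^ Fintype.card F := fun x => by rw [hfr, iterateFrobenius_def, hF]
  constructor
  · have h := (IsAlgClosed.splits Ab.charpoly).roots_map fr
    rw [← Matrix.charpoly_map, show Ab.map fr = Ab by
      ext x y; simp [hAb, hfrx, ← map_pow, FiniteField.pow_card]] at h
    conv_rhs => rw [spRoots, ← hAb, h]
    exact Multiset.map_congr rfl fun t _ => (hfrx t).symm
  · have hne0 : (0 : AlgebraicClosure F) ∉ spRoots g := fun h => by
      haveI : Finite (Matrix.symplecticGroup (Fin m) F) := Subtype.finite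
      have := spRoots_pow (pow_orderOf_eq_one g) h
      rw [zero_pow (orderOf_pos g).ne'] at this
      exact zero_ne_one this
    rw [← CfsgLib.SpectrumPowers.roots_reverse_prod _ hne0]
    simp only [spRoots]
    rw [← (IsAlgClosed.splits Ab.charpoly).eq_prod_roots_of_monic (Matrix.charpoly_monic _)]
    congr 1
    ext k
    rw [coeff_reverse, Matrix.charpoly_natDegree_eq_dim, Fintype.card_sum, Fintype.card_fin]
    rcases le_or_gt k (m + m) with hk | hk
    · rw [revAt_le hk, hAb, Matrix.charpoly_map, coeff_map, coeff_map,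
        ← CfsgLib.SemisimpleCount.charpoly_sym g hk]
    · rw [show revAt (m + m) k = k by
        show (if k ≤ m + m then m + m - k else k) = k
        rw [if_neg (by omega)]]

variable {r : ℕ} [Fact r.Prime] {ζ : AlgebraicClosure F}

theorem count_invariant [DecidableEq (AlgebraicClosure F)] (p : ℕ) [Fact p.Prime] [CharP F p]
    (hζ : orderOf ζ = r) {m : ℕ}
    (g : Matrix.symplecticGroup (Fin m) F) (a u : (ZMod r)ˣ)
    (hu : (u : ZMod r) = (Fintype.card F : ℕ)) :
    (spRoots g).count (root ζ (a * u)) = (spRoots g).count (root ζ a) ∧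
      (spRoots g).count (root ζ (a * -1)) = (spRoots g).count (root ζ a) := by
  obtain ⟨h1, h2⟩ := spRoots_invariant p g
  haveI : CharP (AlgebraicClosure F) p :=
    charP_of_injective_algebraMap (algebraMap F (AlgebraicClosure F)).injective p
  obtain ⟨b, -, hF⟩ := CfsgLib.PSpGraph.card_eq_pow F p
  have hinj : Function.Injective (fun t : AlgebraicClosure F => t ^ Fintype.card F) := fun x y h => by
    refine (iterateFrobenius (AlgebraicClosure F) p b).injective ?_
    simpa [iterateFrobenius_def, ← hF] using h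
  constructor
  · rw [← root_mul_pow hζ a u (Fintype.card F) hu.symm]
    conv_lhs => rw [← h1]
    exact Multiset.count_map_eq_count' _ _ hinj _
  · rw [root_neg hζ]
    conv_lhs => rw [← h2]
    exact Multiset.count_map_eq_count' _ _ inv_injective _

/-- Every invariant multiplicity function that fits is realised. -/
theorem exists_realising [DecidableEq (AlgebraicClosure F)] (p : ℕ) [Fact p.Prime] [CharP F p]
    (hζ : orderOf ζ = r) {u w : (ZMod r)ˣ} (hu : (u : ZMod r) = (Fintype.card F : ℕ))
    (hq : u ∈ Subgroup.zpowers w) (hn : -1 ∈ Subgroup.zpowers w)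
    (hwg : ∀ f : (ZMod r)ˣ → ℕ, (∀ a, f (a * u) = f a) → (∀ a, f (a * -1) = f a) →
      ∀ a, ∀ h ∈ Subgroup.zpowers w, f (a * h) = f a)
    {η : ℕ} (hη : Nat.card (Subgroup.zpowers w) = 2 * η)
    (x : Matrix.symplecticGroup (Fin η) F) (hx : orderOf x = r) (hrp : r ≠ p)
    (l : Multiset ((ZMod r)ˣ ⧸ Subgroup.zpowers w)) :
    ∀ m, η * Multiset.card l ≤ m → ∃ g : Matrix.symplecticGroup (Fin m) F, g ^ r = 1 ∧
      ∀ a, (spRoots g).count (root ζ a) = l.count (QuotientGroup.mk a) := by
  have hr : r.Prime := Fact.out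
  induction l using Multiset.induction with
  | empty =>
    intro m _
    refine ⟨1, one_pow r, fun a => ?_⟩
    rw [Multiset.count_zero, Multiset.count_eq_zero]
    exact fun h => root_ne_one hζ a (spRoots_one h)
  | cons c l ih =>
    intro m hm
    rw [Multiset.card_cons, mul_add, mul_one] at hm
    obtain ⟨m', rfl⟩ : ∃ m', m = η + m' := ⟨m - η, by omega⟩
    obtain ⟨g, hg, hgc⟩ := ih m' (by omega)
    -- the block
    obtain ⟨t, ht, ht1⟩ : ∃ t ∈ spRoots x, t ≠ 1 := by
      by_contra hc
      push Not at hc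
      have := eq_one_of_roots_one p hr hrp (hx ▸ pow_orderOf_eq_one x) hc
      rw [this, orderOf_one] at hx
      exact hr.one_lt.ne hx
    obtain ⟨a0, rfl⟩ := exists_root_eq hζ (spRoots_pow (hx ▸ pow_orderOf_eq_one x) ht) ht1
    haveI : NeZero r := ⟨hr.ne_zero⟩
    set y := x ^ ((a0⁻¹ * c.out : (ZMod r)ˣ) : ZMod r).val with hy
    have hxr : x ^ r = 1 := orderOf_dvd_iff_pow_eq_one.1 hx.dvd
    have hyr : y ^ r = 1 := by rw [hy, ← pow_mul, mul_comm, pow_mul, hxr, one_pow]
    have hroot : root ζ c.out ∈ spRoots y := by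
      have := pow_mem_spRoots ht ((a0⁻¹ * c.out : (ZMod r)ˣ) : ZMod r).val
      rwa [root_mul_pow hζ a0 (a0⁻¹ * c.out) _ (ZMod.natCast_zmod_val _), mul_inv_cancel_left] at this
    have hcnt : ∀ a : (ZMod r)ˣ, (spRoots y).count (root ζ a) = if QuotientGroup.mk a = c then 1 else 0 := by
      classical
      set f := fun a : (ZMod r)ˣ => (spRoots y).count (root ζ a)
      have hf := hwg f (fun a => (count_invariant p hζ y a u hu).1) (fun a => (count_invariant p hζ y a u hu).2)
      haveI : Fintype ((ZMod r)ˣ ⧸ Subgroup.zpowers w) := Fintype.ofFinite _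
      have hcoset : ∀ a, QuotientGroup.mk a = c → f a = f c.out := fun a ha =>
        const_on_coset hf (ha.trans (QuotientGroup.out_eq' c).symm)
      have h1 : 1 ≤ f c.out := Multiset.one_le_count_iff_mem.2 hroot
      have h2 : ∑ a : (ZMod r)ˣ, f a ≤ 2 * η := le_of_le_of_eq (sum_count_le hζ _) (by rw [spRoots_card]; omega)
      have h3 : ∑ a : (ZMod r)ˣ, (if QuotientGroup.mk a = c then 1 else 0) = 2 * η := by
        rw [sum_eq_mul_sum (Subgroup.zpowers w) fun d => if d = c then 1 else 0]
        simp [-Nat.card_eq_fintype_card, hη]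
      have h4 : ∀ a ∈ (Finset.univ : Finset (ZMod r)ˣ), (if QuotientGroup.mk a = c then 1 else 0) ≤ f a := by
        intro a _
        split_ifs with ha
        · rw [hcoset a ha]; exact h1
        · exact Nat.zero_le _
      intro a
      have h5 := (Finset.sum_eq_sum_iff_of_le h4).1 (le_antisymm (Finset.sum_le_sum h4) (h2.trans h3.ge))
      exact (h5 a (Finset.mem_univ a)).symm
    refine ⟨CfsgLib.SympBlocks.Φ η m' (y, g), ?_, fun a => ?_⟩
    · rw [← map_pow, Prod.pow_mk, hyr, hg]
      exact map_one _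
    · rw [spRoots_Φ, Multiset.count_add, hcnt, hgc, Multiset.count_cons]
      split_ifs <;> omega

end CfsgLib.SemisimplePrimeClasses
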