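import Cfsg.Agent.Lib.SemisimplePrimeClasses.OrthFixed

/-! Indices of smaller orthogonal groups, and the congruences showing them prime to `r`. -/

set_option autoImplicit false
set_option linter.unusedSectionVars false

namespace CfsgLib.SemisimplePrimeClasses

open CfsgLib.Lagrangian CfsgLib.StdQuadForms CfsgLib.OrthOrder

variable {F : Type*} [Field F] [Fintype F]

theorem card_iso_Qp (m : ℕ) (hm : 1 ≤ m) : Nat.card (Cfsg.isometryGroup F ⇑(Qp m F)) =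
    2 * Fintype.card F ^ (m * (m - 1)) * (Fintype.card F ^ m - 1) *
      ∏ i ∈ Finset.range (m - 1), (Fintype.card F ^ (2 * (i + 1)) - 1) := by
  rw [show ⇑(Qp m F) = Cfsg.quadFormPlus m F from funext fun v => Qp_apply v, card_O_plus m hm]

theorem card_iso_Qm (m : ℕ) (hm : 1 ≤ m) {a b : F}
    (hab : ∀ z₁ z₂ : F, z₁ ^ 2 + a * z₁ * z₂ + b * z₂ ^ 2 = 0 → z₁ = 0 ∧ z₂ = 0) :
    Nat.card (Cfsg.isometryGroup F ⇑(Qm (m - 1) a b)) =
    2 * Fintype.card F ^ (m * (m - 1)) * (Fintype.card F ^ m + 1) *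
      ∏ i ∈ Finset.range (m - 1), (Fintype.card F ^ (2 * (i + 1)) - 1) := by
  rw [show ⇑(Qm (m - 1) a b) = Cfsg.quadFormMinus (m - 1) F a b from funext fun v => Qm_apply _ _ _ v,
    card_O_minus m hm a b hab]

theorem sq_pow_sub_one (q k : ℕ) : q ^ (2 * k) - 1 = (q ^ k + 1) * (q ^ k - 1) := by
  rw [mul_comm 2 k, pow_mul]
  simpa using Nat.sq_sub_sq (q ^ k) 1

theorem index_plus (j : ℕ) : Nat.card (Cfsg.isometryGroup F ⇑(Qp (j + 2) F)) =
    Nat.card (Cfsg.isometryGroup F ⇑(Qp (j + 1) F)) *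
      (Fintype.card F ^ (2 * (j + 1)) * ((Fintype.card F ^ (j + 2) - 1) * (Fintype.card F ^ (j + 1) + 1))) := by
  rw [card_iso_Qp _ (by omega), card_iso_Qp _ (by omega), show j + 2 - 1 = j + 1 by omega,
    show j + 1 - 1 = j by omega, Finset.prod_range_succ, sq_pow_sub_one _ (j + 1)]
  ring

theorem index_minus {a b : F}
    (hab : ∀ z₁ z₂ : F, z₁ ^ 2 + a * z₁ * z₂ + b * z₂ ^ 2 = 0 → z₁ = 0 ∧ z₂ = 0) (j : ℕ) :
    Nat.card (Cfsg.isometryGroup F ⇑(Qm (j + 1) a b)) =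
    Nat.card (Cfsg.isometryGroup F ⇑(Qm j a b)) *
      (Fintype.card F ^ (2 * (j + 1)) * ((Fintype.card F ^ (j + 2) + 1) * (Fintype.card F ^ (j + 1) - 1))) := by
  have h1 := card_iso_Qm (j + 2) (by omega) hab
  have h2 := card_iso_Qm (j + 1) (by omega) hab
  rw [show j + 2 - 1 = j + 1 by omega] at h1
  rw [show j + 1 - 1 = j by omega] at h2
  rw [h1, h2, Finset.prod_range_succ, sq_pow_sub_one _ (j + 1)]
  ring

theorem index_minus_plus {a b : F}
    (hab : ∀ z₁ z₂ : F, z₁ ^ 2 + a * z₁ * z₂ + b * z₂ ^ 2 = 0 → z₁ = 0 ∧ z₂ = 0) (j : ℕ) :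
    Nat.card (Cfsg.isometryGroup F ⇑(Qm (j + 1) a b)) =
    Nat.card (Cfsg.isometryGroup F ⇑(Qp (j + 1) F)) *
      (Fintype.card F ^ (2 * (j + 1)) * ((Fintype.card F ^ (j + 2) + 1) * (Fintype.card F ^ (j + 1) + 1))) := by
  have h1 := card_iso_Qm (j + 2) (by omega) hab
  rw [show j + 2 - 1 = j + 1 by omega] at h1
  rw [h1, card_iso_Qp _ (by omega), show j + 1 - 1 = j by omega, Finset.prod_range_succ,
    sq_pow_sub_one _ (j + 1)]
  ring

theorem card_Qp_zero : Nat.card (Cfsg.isometryGroup F ⇑(Qp 0 F)) = 1 :=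
  Nat.card_eq_one_iff_unique.2 ⟨⟨fun x y => Subtype.ext (Units.ext (Subsingleton.elim _ _))⟩, ⟨1⟩⟩

theorem not_dvd_index {r : ℕ} [Fact r.Prime] (hr2 : r ≠ 2) {q n : ℕ} (hq : 0 < q) (A B : Bool)
    {x y : ZMod r} (hy : (q : ZMod r) ^ (n + 1) = y) (hx : (q : ZMod r) ^ (n + 2) = x)
    (hA : (if A then x + 1 else x - 1) ≠ 0) (hB : (if B then y + 1 else y - 1) ≠ 0) (hq0 : (q : ZMod r) ≠ 0) :
    ¬ r ∣ q ^ (2 * (n + 1)) * ((if A then q ^ (n + 2) + 1 else q ^ (n + 2) - 1) *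
      (if B then q ^ (n + 1) + 1 else q ^ (n + 1) - 1)) := by
  have hr : r.Prime := Fact.out
  intro h
  rcases hr.dvd_mul.1 h with h | h
  · exact hq0 ((ZMod.natCast_eq_zero_iff _ _).2 (hr.dvd_of_dvd_pow h))
  · rw [← ZMod.natCast_eq_zero_iff, Nat.cast_mul, mul_eq_zero] at h
    have c1 : ∀ k, ((q ^ k - 1 : ℕ) : ZMod r) = (q : ZMod r) ^ k - 1 := fun k => by
      rw [Nat.cast_sub (Nat.one_le_pow _ _ hq), Nat.cast_pow, Nat.cast_one]
    cases A <;> cases B <;>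
      simp only [Bool.false_eq_true, if_true, if_false, Nat.cast_add, Nat.cast_pow, Nat.cast_one, c1, hx,
        hy] at h hA hB <;> tauto

end CfsgLib.SemisimplePrimeClasses
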