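import Mathlib

/-! Counting orbit-invariant multiplicity functions, for counting classes of elements of prime order. -/

set_option autoImplicit false

namespace CfsgLib.SemisimplePrimeClasses

variable {U : Type*} [CommGroup U] [Fintype U]

theorem const_on_coset {H : Subgroup U} {f : U → ℕ} (hf : ∀ a, ∀ h ∈ H, f (a * h) = f a) {a b : U}
    (h : (QuotientGroup.mk a : U ⧸ H) = QuotientGroup.mk b) : f a = f b := by
  have h1 : a⁻¹ * b ∈ H := QuotientGroup.eq.1 h
  have := hf a _ h1
  rw [mul_inv_cancel_left] at this
  exact this.symm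

theorem card_mul_quot (H : Subgroup U) [Fintype (U ⧸ H)] :
    Fintype.card (U ⧸ H) * Nat.card H = Fintype.card U := by
  rw [← Nat.card_eq_fintype_card, ← Nat.card_eq_fintype_card, ← Subgroup.card_eq_card_quotient_mul_card_subgroup]

theorem sum_eq_mul_sum (H : Subgroup U) [Fintype (U ⧸ H)] (g : U ⧸ H → ℕ) :
    ∑ a : U, g (QuotientGroup.mk a) = Nat.card H * ∑ c, g c := by
  classical
  rw [← Finset.sum_fiberwise Finset.univ (fun a : U => (QuotientGroup.mk a : U ⧸ H)), Finset.mul_sum]
  refine Finset.sum_congr rfl fun c _ => ?_
  rw [Finset.sum_congr rfl (g := fun _ => g c) (fun a ha => by rw [(Finset.mem_filter.1 ha).2]),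
    Finset.sum_const, smul_eq_mul]
  congr 1
  obtain ⟨a0, rfl⟩ := QuotientGroup.mk_surjective c
  rw [← Fintype.card_subtype, ← Nat.card_eq_fintype_card]
  refine Nat.card_congr
    { toFun := fun a => ⟨a0⁻¹ * a.1, QuotientGroup.eq.1 a.2.symm⟩
      invFun := fun h => ⟨a0 * h.1, (QuotientGroup.eq.2 (by rw [inv_mul_cancel_left]; exact h.2)).symm⟩
      left_inv := fun a => Subtype.ext (mul_inv_cancel_left _ _)
      right_inv := fun h => Subtype.ext (inv_mul_cancel_left _ _) }

/-- A family of objects with `H`-invariant multiplicity functions of bounded total, realising every such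
function, has `(N + T).choose T` members, `T` the index of `H` and `N` the largest number of orbits. -/
theorem card_invariant {W : Type*} [Finite W] (H : Subgroup U) (D N : ℕ) (cnt : W → U → ℕ)
    (hN : N = D / Nat.card H) (hinj : Function.Injective cnt)
    (hinv : ∀ w a, ∀ h ∈ H, cnt w (a * h) = cnt w a) (hbound : ∀ w, ∑ a : U, cnt w a ≤ D)
    (hreal : ∀ e : U ⧸ H → ℕ, (∀ [Fintype (U ⧸ H)], ∑ c, e c ≤ N) →
      ∃ w, ∀ a, cnt w a = e (QuotientGroup.mk a)) :
    Nat.card W = (N + Nat.card (U ⧸ H)).choose (Nat.card (U ⧸ H)) := by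
  classical
  haveI : Fintype (U ⧸ H) := Fintype.ofFinite _
  set Q := U ⧸ H
  have hsym : Nat.card (Sym (Option Q) N) = (N + Nat.card Q).choose (Nat.card Q) := by
    rw [Nat.card_eq_fintype_card, Sym.card_sym_eq_choose, Fintype.card_option, Nat.card_eq_fintype_card]
    rw [show Fintype.card Q + 1 + N - 1 = N + Fintype.card Q by omega]
    exact Nat.choose_symm_add
  rw [← hsym]
  have hpos : 0 < Nat.card H := Nat.card_pos
  refine le_antisymm ?_ ?_
  · let e : W → Q → ℕ := fun w c => cnt w c.out
    have he : ∀ w a, cnt w a = e w (QuotientGroup.mk a) := fun w a =>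
      const_on_coset (hinv w) (QuotientGroup.out_eq' _).symm
    have hle : ∀ w, ∑ c, e w c ≤ N := fun w => by
      rw [hN, Nat.le_div_iff_mul_le hpos, mul_comm, ← sum_eq_mul_sum H (e w),
        ← Finset.sum_congr rfl fun a _ => he w a]
      exact hbound w
    let M : W → Multiset (Option Q) := fun w =>
      ∑ c : Q, Multiset.replicate (e w c) (some c) + Multiset.replicate (N - ∑ c, e w c) none
    have hM : ∀ w c, (M w).count (some c) = e w c := fun w c => by
      simp only [M, Multiset.count_add, Multiset.count_sum', Multiset.count_replicate]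
      rw [Finset.sum_eq_single c (fun d _ hd => by simp [hd]) (by simp)]
      simp
    let Φ : W → Sym (Option Q) N := fun w => ⟨M w, by
      simp only [M, Multiset.card_add, Multiset.card_sum, Multiset.card_replicate]
      have := hle w
      omega⟩
    refine Nat.card_le_card_of_injective Φ fun w w' h => hinj (funext fun a => ?_)
    rw [he, he, ← hM, ← hM]
    exact congrArg (fun s : Sym (Option Q) N => s.1.count (some (QuotientGroup.mk a))) h
  · have hs : ∀ s : Sym (Option Q) N, ∃ w, ∀ a, cnt w a = s.1.count (some (QuotientGroup.mk a)) := by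
      intro s
      refine hreal (fun c => s.1.count (some c)) fun {inst} => ?_
      rw [Subsingleton.elim inst ‹Fintype Q›]
      have h1 : ∑ o : Option Q, s.1.count o = N := by
        rw [Multiset.sum_count_eq_card (fun a _ => Finset.mem_univ a)]; exact s.2
      rw [Fintype.sum_option] at h1
      convert Nat.le.intro (add_comm _ _ |>.trans h1) using 3
    choose w hw using hs
    refine Nat.card_le_card_of_injective w fun s t h => ?_
    have h1 : ∀ c : Q, s.1.count (some c) = t.1.count (some c) := fun c => by
      obtain ⟨a, rfl⟩ := QuotientGroup.mk_surjective c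
      rw [← hw, ← hw, h]
    refine Subtype.ext (Multiset.ext.2 fun o => ?_)
    rcases o with _ | c
    · have h2 : ∀ u : Sym (Option Q) N, u.1.count none + ∑ c, u.1.count (some c) = N := fun u => by
        rw [← Fintype.sum_option fun o => u.1.count o, Multiset.sum_count_eq_card (fun a _ => Finset.mem_univ a)]
        exact u.2
      have := h2 s
      have := h2 t
      rw [Finset.sum_congr rfl fun c _ => h1 c] at *
      omega
    · exact h1 c

end CfsgLib.SemisimplePrimeClasses
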