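import Cfsg.Agent.Lib.SemisimplePrimeClasses.Orthogonal
import Cfsg.Agent.Lib.SemisimpleIso.Groups
import Cfsg.Agent.Lib.PSpGraph.Basic

/-! Classes of elements of odd prime order in orthogonal groups. -/

set_option autoImplicit false
set_option linter.unusedSectionVars false
set_option maxHeartbeats 1000000

namespace CfsgLib.SemisimplePrimeClasses

open Polynomial Matrix CfsgLib.OmegaSum CfsgLib.Lagrangian CfsgLib.StdQuadForms

variable {F : Type*} [Field F] [Fintype F]
variable {ι : Type} [Fintype ι] [DecidableEq ι]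

/-- An anisotropic binary form exists. -/
theorem exists_binary (F : Type*) [Field F] [Fintype F] :
    ∃ a b : F, ∀ z₁ z₂ : F, z₁ ^ 2 + a * z₁ * z₂ + b * z₂ ^ 2 = 0 → z₁ = 0 ∧ z₂ = 0 := by
  have h : ¬ Function.Surjective fun t : F => t ^ 2 + t := fun hs => by
    have hi := Finite.injective_iff_surjective.2 hs
    have := hi (show (fun t : F => t ^ 2 + t) 0 = (fun t : F => t ^ 2 + t) (-1) by simp)
    exact one_ne_zero (neg_eq_zero.1 this.symm)
  simp only [Function.Surjective, not_forall, not_exists] at h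
  obtain ⟨c, hc⟩ := h
  exact ⟨1, -c, CfsgLib.FiniteForms.anisotropic_of_no_root fun t ht => hc t (by linear_combination ht)⟩

theorem exists_root_of_unity (p : ℕ) [Fact p.Prime] [CharP F p] {r : ℕ} (hr : r.Prime) (hrp : r ≠ p) :
    ∃ ζ : AlgebraicClosure F, orderOf ζ = r := by
  haveI : CharP (AlgebraicClosure F) p :=
    charP_of_injective_algebraMap (algebraMap F (AlgebraicClosure F)).injective p
  haveI : NeZero ((r : AlgebraicClosure F)) := ⟨fun h => hrp
    ((Nat.prime_dvd_prime_iff_eq Fact.out hr).1 ((CharP.cast_eq_zero_iff (AlgebraicClosure F) p r).1 h)).symm⟩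
  obtain ⟨ζ, hζ0⟩ := IsAlgClosed.exists_root (Polynomial.cyclotomic r (AlgebraicClosure F)) (by
    rw [Polynomial.degree_cyclotomic]; exact_mod_cast (Nat.totient_pos.mpr hr.pos).ne')
  exact ⟨ζ, (Polynomial.isRoot_cyclotomic_iff.mp hζ0).eq_orderOf.symm⟩

/-- The group generated by `q` and `-1` modulo `r`. -/
theorem exists_orbit_group {r i : ℕ} [Fact r.Prime] (hr2 : r ≠ 2) {u : (ZMod r)ˣ} (hou : orderOf u = i) :
    ∃ (w : (ZMod r)ˣ) (η : ℕ), 0 < η ∧ Nat.card (Subgroup.zpowers w) = 2 * η ∧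
      (∀ f : (ZMod r)ˣ → ℕ, (∀ a, f (a * u) = f a) → (∀ a, f (a * -1) = f a) →
        ∀ a, ∀ h ∈ Subgroup.zpowers w, f (a * h) = f a) ∧
      (Odd i ∧ η = i ∨ Even i ∧ 2 * η = i) ∧ (Odd i → u ^ η = 1) ∧ (Even i → u ^ η = -1) := by
  have hr : r.Prime := Fact.out
  haveI : NeZero r := ⟨hr.ne_zero⟩
  have hi0 : 0 < i := hou ▸ orderOf_pos u
  haveI : Fact (2 < r) := ⟨lt_of_le_of_ne hr.two_le (Ne.symm hr2)⟩
  have hneg : (-1 : (ZMod r)ˣ) ≠ 1 := fun h => ZMod.neg_one_ne_one (by
    have := congrArg Units.val h; simpa using this)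
  rcases Nat.even_or_odd i with ⟨j, hj⟩ | hodd
  · have hj2 : u ^ j = -1 := by
      have h2 : (u ^ j) ^ 2 = 1 := by rw [← pow_mul, mul_two, ← hj, ← hou, pow_orderOf_eq_one]
      have := congrArg Units.val h2
      rw [Units.val_pow_eq_pow_val, Units.val_one] at this
      rcases sq_eq_one_iff.1 this with h | h
      · exfalso
        have := Nat.le_of_dvd (by omega) (hou ▸ orderOf_dvd_of_pow_eq_one (Units.ext h : u ^ j = 1))
        omega
      · exact Units.ext (by simpa using h)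
    exact ⟨u, j, by omega, by rw [Nat.card_zpowers, hou]; omega, fun f h1 _ => invariant_of_generators h1,
      Or.inr ⟨⟨j, hj⟩, by omega⟩, fun h => absurd ⟨j, hj⟩ (Nat.not_even_iff_odd.2 h), fun _ => hj2⟩
  · refine ⟨-u, i, hi0, ?_, fun f h1 h2 => invariant_of_generators fun a => ?_, Or.inl ⟨hodd, rfl⟩,
      fun _ => hou ▸ pow_orderOf_eq_one u, fun h => absurd h (Nat.not_even_iff_odd.2 hodd)⟩
    · rw [Nat.card_zpowers, neg_eq_neg_one_mul,
        (Commute.all _ _).orderOf_mul_eq_mul_orderOf_of_coprime, orderOf_eq_prime (p := 2) (neg_one_sq) hneg, hou]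
      rw [orderOf_eq_prime (p := 2) (neg_one_sq) hneg, hou]
      exact Nat.coprime_two_left.2 hodd
    · rw [show a * -u = a * u * -1 by rw [mul_neg_one, mul_neg], h2, h1]

variable {r : ℕ} [Fact r.Prime] {ζ : AlgebraicClosure F}

/-- The class count, from the largest number of orbits of nontrivial eigenvalues. -/
theorem card_orth_classes [DecidableEq (AlgebraicClosure F)] (p a : ℕ) [Fact p.Prime] [CharP F p]
    (hF : Fintype.card F = p ^ a) (hr2 : r ≠ 2) (hrp : r ≠ p) (hζ : orderOf ζ = r)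
    {u w : (ZMod r)ˣ} (hu : (u : ZMod r) = (Fintype.card F : ℕ))
    (hwg : ∀ f : (ZMod r)ˣ → ℕ, (∀ a, f (a * u) = f a) → (∀ a, f (a * -1) = f a) →
      ∀ a, ∀ h ∈ Subgroup.zpowers w, f (a * h) = f a)
    {Q : QuadraticForm F (ι → F)} (hQ : (QuadraticMap.polarBilin Q).Nondegenerate) (N : ℕ)
    [DecidableEq ((ZMod r)ˣ ⧸ Subgroup.zpowers w)]
    (hbound : ∀ g : Cfsg.isometryGroup F ⇑Q, g ^ r = 1 →
      ∑ b : (ZMod r)ˣ, (matRoots g.1.1).count (root ζ b) ≤ Nat.card (Subgroup.zpowers w) * N)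
    (hreal : ∀ l : Multiset ((ZMod r)ˣ ⧸ Subgroup.zpowers w), Multiset.card l ≤ N →
      Realises ζ Q (fun b : (ZMod r)ˣ => l.count (QuotientGroup.mk b))) :
    Nat.card {C : ConjClasses ↥(Cfsg.isometryGroup F ⇑Q) //
      ∃ g : ↥(Cfsg.isometryGroup F ⇑Q), ConjClasses.mk g = C ∧ orderOf g = r} =
      (N + Nat.card ((ZMod r)ˣ ⧸ Subgroup.zpowers w)).choose (Nat.card ((ZMod r)ˣ ⧸ Subgroup.zpowers w)) - 1 := by
  classical
  have hr : r.Prime := Fact.out
  haveI : NeZero r := ⟨hr.ne_zero⟩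
  let W := {C : ConjClasses ↥(Cfsg.isometryGroup F ⇑Q) //
    ∃ g : ↥(Cfsg.isometryGroup F ⇑Q), ConjClasses.mk g = C ∧ g ^ r = 1}
  haveI : Finite W := Subtype.finite
  choose rep hrep hrepr using fun C : W => C.2
  let cnt : W → (ZMod r)ˣ → ℕ := fun C c => (matRoots (rep C).1.1).count (root ζ c)
  have hconjroots : ∀ g g' : ↥(Cfsg.isometryGroup F ⇑Q), IsConj g g' → matRoots g.1.1 = matRoots g'.1.1 := by
    intro g g' hgg
    obtain ⟨c, hc⟩ := _root_.isConj_iff.1 hgg
    subst hc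
    refine matRoots_eq_of_charpoly ?_
    simp only [Subgroup.coe_mul, Subgroup.coe_inv, Units.val_mul, Matrix.coe_units_inv]
    exact (Matrix.charpoly_units_conj c.1 g.1.1).symm
  have hinj : Function.Injective cnt := by
    intro C D hCD
    have h1 : matRoots (rep C).1.1 = matRoots (rep D).1.1 :=
      eq_of_count hζ (fun t ht => matRoots_pow (pow_eq_one_val (hrepr C)) ht)
        (fun t ht => matRoots_pow (pow_eq_one_val (hrepr D)) ht) (by rw [matRoots_card, matRoots_card])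
        fun c => congrFun hCD c
    have hco : ∀ C, (orderOf (rep C)).Coprime p := fun C =>
      Nat.Coprime.coprime_dvd_left (orderOf_dvd_of_pow_eq_one (hrepr C)) ((Nat.coprime_primes hr Fact.out).2 hrp)
    let f := Fintype.equivFin ι
    let ρ := Matrix.reindexAlgEquiv F F f
    let Φ : GL ι F →* GL (Fin (Fintype.card ι)) F := Units.map ρ.toAlgHom.toMonoidHom
    obtain ⟨P, hP⟩ := CfsgLib.SemisimpleClasses.exists_conj
      (CfsgLib.SemisimpleClasses.isSemisimple_of_coprime (Φ (rep C).1)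
        (Nat.Coprime.coprime_dvd_left ((orderOf_map_dvd Φ _).trans (by rw [Subgroup.orderOf_coe])) (hco C)))
      (CfsgLib.SemisimpleClasses.isSemisimple_of_coprime (Φ (rep D).1)
        (Nat.Coprime.coprime_dvd_left ((orderOf_map_dvd Φ _).trans (by rw [Subgroup.orderOf_coe])) (hco D)))
      (show (Matrix.reindex f f (rep C).1.1).charpoly = (Matrix.reindex f f (rep D).1.1).charpoly by
        rw [Matrix.charpoly_reindex, Matrix.charpoly_reindex, charpoly_eq_of_matRoots h1])
    refine Subtype.ext ?_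
    rw [← hrep C, ← hrep D, ConjClasses.mk_eq_mk_iff_isConj]
    refine CfsgLib.SemisimpleIso.orth_isConj Q hQ
      ((hr.odd_of_ne_two hr2).of_dvd_nat (orderOf_dvd_of_pow_eq_one (hrepr C))) (hco C)
      ⟨Units.map ρ.symm.toAlgHom.toMonoidHom P, ?_⟩
    show ρ.symm P.1 * (rep C).1.1 = (rep D).1.1 * ρ.symm P.1
    apply ρ.injective
    rw [map_mul, map_mul, AlgEquiv.apply_symm_apply]
    exact hP
  have hW : Nat.card W = (N + Nat.card ((ZMod r)ˣ ⧸ Subgroup.zpowers w)).choose
      (Nat.card ((ZMod r)ˣ ⧸ Subgroup.zpowers w)) := by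
    refine card_invariant (Subgroup.zpowers w) (Nat.card (Subgroup.zpowers w) * N) N cnt
      (by rw [Nat.mul_div_cancel_left _ Nat.card_pos]) hinj
      (fun C => hwg _ (fun b => (count_invariant_orth p a hF hζ hQ (rep C) b u hu).1)
        (fun b => (count_invariant_orth p a hF hζ hQ (rep C) b u hu).2))
      (fun C => hbound _ (hrepr C)) ?_
    intro e he
    haveI : Fintype ((ZMod r)ˣ ⧸ Subgroup.zpowers w) := Fintype.ofFinite _
    set l : Multiset ((ZMod r)ˣ ⧸ Subgroup.zpowers w) := ∑ c, Multiset.replicate (e c) c with hl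
    obtain ⟨g, hg, hgc⟩ := hreal l (by
      rw [hl, Multiset.card_sum, Finset.sum_congr rfl fun c _ => Multiset.card_replicate (e c) c]
      exact he)
    refine ⟨⟨ConjClasses.mk g, g, rfl, hg⟩, fun b => ?_⟩
    show (matRoots (rep _).1.1).count _ = _
    rw [hconjroots _ g (ConjClasses.mk_eq_mk_iff_isConj.1 (hrep _))]
    have := hgc b
    simp only at this
    rw [hl, Multiset.count_sum',
      Finset.sum_eq_single (QuotientGroup.mk b : (ZMod r)ˣ ⧸ Subgroup.zpowers w)
        (fun d _ hd => by rw [Multiset.count_replicate, if_neg hd]) (by simp),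
      Multiset.count_replicate_self] at this
    convert this using 2
  rw [← hW]
  haveI : Fintype W := Fintype.ofFinite W
  have e1 : Nat.card {C : W // C.1 ≠ ConjClasses.mk 1} = Nat.card W - 1 := by
    rw [Nat.card_eq_fintype_card, Nat.card_eq_fintype_card,
      ← Fintype.card_subtype_eq (⟨ConjClasses.mk 1, 1, rfl, one_pow r⟩ : W), ← Fintype.card_subtype_compl]
    exact Fintype.card_congr (Equiv.subtypeEquivRight fun C =>
      not_congr ⟨fun h => Subtype.ext h, fun h => congrArg Subtype.val h⟩)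
  rw [← e1]
  refine Nat.card_congr
    { toFun := fun C => ⟨⟨C.1, C.2.choose, C.2.choose_spec.1,
        orderOf_dvd_iff_pow_eq_one.1 C.2.choose_spec.2.dvd⟩, fun h => ?_⟩
      invFun := fun C => ⟨C.1.1, ?_⟩
      left_inv := fun C => rfl
      right_inv := fun C => rfl }
  · obtain ⟨g, hg, hgo⟩ := C.2
    have h1 : IsConj g 1 := ConjClasses.mk_eq_mk_iff_isConj.1 (hg.trans h)
    rw [isConj_one_left.1 h1, orderOf_one] at hgo
    exact hr.one_lt.ne hgo
  · obtain ⟨g, hg, hgr⟩ := C.1.2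
    exact ⟨g, hg, orderOf_eq_prime hgr fun h => C.2 (by rw [← hg, h])⟩

theorem realises_congr {ι : Type} [Fintype ι] [DecidableEq ι] {Q : QuadraticForm F (ι → F)}
    {f f' : (ZMod r)ˣ → ℕ} (h : Realises ζ Q f) (hf : ∀ b, f b = f' b) : Realises ζ Q f' := by
  rwa [show f' = f from (funext hf).symm]

theorem formEquiv_qp_eq {a b : ℕ} (h : a = b) : FormEquiv (Qp a F) (Qp b F) := h ▸ FormEquiv.refl _

theorem formEquiv_qm_eq {a b : ℕ} (x y : F) (h : a = b) : FormEquiv (Qm a x y) (Qm b x y) :=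
  h ▸ FormEquiv.refl _

theorem formEquiv_qo_eq {a b : ℕ} (h : a = b) : FormEquiv (Qo (F := F) a) (Qo (F := F) b) :=
  h ▸ FormEquiv.refl _

theorem realises_add_trivial {κ μ : Type} [Fintype κ] [DecidableEq κ] [Fintype μ] [DecidableEq μ]
    (hζ : orderOf ζ = r) {Q : QuadraticForm F (ι → F)} {R : QuadraticForm F (κ → F)}
    {T : QuadraticForm F (μ → F)} {f : (ZMod r)ˣ → ℕ} (h : Realises ζ Q f)
    (he : FormEquiv (Qs Q R) T) : Realises ζ T f :=
  realises_congr (realises_transfer he (realises_sum h (realises_zero hζ R))) fun b => add_zero _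

/-- Blocks of plus type. -/
theorem realises_plus {w : (ZMod r)ˣ} [DecidableEq ((ZMod r)ˣ ⧸ Subgroup.zpowers w)] (hζ : orderOf ζ = r)
    {η : ℕ} (hblock : ∀ c : (ZMod r)ˣ ⧸ Subgroup.zpowers w,
      Realises ζ (Qp η F) (fun b : (ZMod r)ˣ => if QuotientGroup.mk b = c then 1 else 0))
    (l : Multiset ((ZMod r)ˣ ⧸ Subgroup.zpowers w)) :
    Realises ζ (Qp (η * Multiset.card l) F) (fun b : (ZMod r)ˣ => l.count (QuotientGroup.mk b)) := by
  induction l using Multiset.induction with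
  | empty => exact realises_congr (realises_zero hζ _) fun b => by simp
  | cons c l ih =>
    refine realises_transfer (formEquiv_qp_eq (by rw [Multiset.card_cons]; ring))
      (realises_congr (realises_transfer (qp_add _ _) (realises_sum (hblock c) ih)) fun b => ?_)
    rw [Multiset.count_cons, add_comm]

/-- Blocks of minus type. -/
theorem realises_minus {w : (ZMod r)ˣ} [DecidableEq ((ZMod r)ˣ ⧸ Subgroup.zpowers w)] (hζ : orderOf ζ = r)
    {η : ℕ} (hη : 0 < η) {x y : F}
    (hxy : ∀ z₁ z₂ : F, z₁ ^ 2 + x * z₁ * z₂ + y * z₂ ^ 2 = 0 → z₁ = 0 ∧ z₂ = 0)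
    (hblock : ∀ c : (ZMod r)ˣ ⧸ Subgroup.zpowers w,
      Realises ζ (Qm (η - 1) x y) (fun b : (ZMod r)ˣ => if QuotientGroup.mk b = c then 1 else 0))
    (l : Multiset ((ZMod r)ˣ ⧸ Subgroup.zpowers w)) :
    (Even (Multiset.card l) →
      Realises ζ (Qp (η * Multiset.card l) F) (fun b : (ZMod r)ˣ => l.count (QuotientGroup.mk b))) ∧
    (Odd (Multiset.card l) →
      Realises ζ (Qm (η * Multiset.card l - 1) x y) (fun b : (ZMod r)ˣ => l.count (QuotientGroup.mk b))) := by
  induction l using Multiset.induction with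
  | empty => exact ⟨fun _ => realises_congr (realises_zero hζ _) fun b => by simp, fun h => absurd h (by simp)⟩
  | cons c l ih =>
    have e : η * Multiset.card (c ::ₘ l) = η * Multiset.card l + η := by rw [Multiset.card_cons]; ring
    constructor
    · intro h
      rw [Multiset.card_cons, Nat.even_add_one, Nat.not_even_iff_odd] at h
      have h1 : 1 ≤ η * Multiset.card l := Nat.mul_pos hη h.pos
      refine realises_transfer (formEquiv_qp_eq (by omega))
        (realises_congr (realises_transfer (qm_add_qm hxy _ _) (realises_sum (hblock c) (ih.2 h))) fun b => ?_)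
      rw [Multiset.count_cons, add_comm]
    · intro h
      rw [Multiset.card_cons, Nat.odd_add_one, Nat.not_odd_iff_even] at h
      refine realises_transfer (formEquiv_qm_eq x y (by omega))
        (realises_congr (realises_transfer ((formEquiv_comm _ _).trans (qm_add _ _ x y))
          (realises_sum (hblock c) (ih.1 h))) fun b => ?_)
      rw [Multiset.count_cons, add_comm]

theorem block_plus (p a : ℕ) [Fact p.Prime] [CharP F p] (hF : Fintype.card F = p ^ a) (hrp : r ≠ p)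
    (hζ : orderOf ζ = r) {u w : (ZMod r)ˣ} (hu : (u : ZMod r) = (Fintype.card F : ℕ))
    (hwg : ∀ f : (ZMod r)ˣ → ℕ, (∀ a, f (a * u) = f a) → (∀ a, f (a * -1) = f a) →
      ∀ a, ∀ h ∈ Subgroup.zpowers w, f (a * h) = f a)
    {η : ℕ} (hη0 : 0 < η) (hη : Nat.card (Subgroup.zpowers w) = 2 * η) (hpow : u ^ η = 1)
    [DecidableEq ((ZMod r)ˣ ⧸ Subgroup.zpowers w)] (c : (ZMod r)ˣ ⧸ Subgroup.zpowers w) :
    Realises ζ (Qp η F) (fun b : (ZMod r)ˣ => if QuotientGroup.mk b = c then 1 else 0) := by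
  refine realises_block p a hF hrp hζ hu hwg hη Qp_nondeg (by simp [two_mul]) ?_ c
  rw [show ⇑(Qp η F) = Cfsg.quadFormPlus η F from funext fun v => Qp_apply v, CfsgLib.OrthOrder.card_O_plus η hη0]
  refine Dvd.dvd.mul_right (Dvd.dvd.mul_left ?_ _) _
  rw [← ZMod.natCast_eq_zero_iff, Nat.cast_sub (Nat.one_le_pow _ _ Fintype.card_pos), Nat.cast_pow, ← hu,
    ← Units.val_pow_eq_pow_val, hpow]
  simp

theorem block_minus (p a : ℕ) [Fact p.Prime] [CharP F p] (hF : Fintype.card F = p ^ a) (hrp : r ≠ p)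
    (hζ : orderOf ζ = r) {u w : (ZMod r)ˣ} (hu : (u : ZMod r) = (Fintype.card F : ℕ))
    (hwg : ∀ f : (ZMod r)ˣ → ℕ, (∀ a, f (a * u) = f a) → (∀ a, f (a * -1) = f a) →
      ∀ a, ∀ h ∈ Subgroup.zpowers w, f (a * h) = f a)
    {η : ℕ} (hη0 : 0 < η) (hη : Nat.card (Subgroup.zpowers w) = 2 * η) (hpow : u ^ η = -1) {x y : F}
    (hxy : ∀ z₁ z₂ : F, z₁ ^ 2 + x * z₁ * z₂ + y * z₂ ^ 2 = 0 → z₁ = 0 ∧ z₂ = 0)
    [DecidableEq ((ZMod r)ˣ ⧸ Subgroup.zpowers w)] (c : (ZMod r)ˣ ⧸ Subgroup.zpowers w) :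
    Realises ζ (Qm (η - 1) x y) (fun b : (ZMod r)ˣ => if QuotientGroup.mk b = c then 1 else 0) := by
  refine realises_block p a hF hrp hζ hu hwg hη (Qm_nondeg _ hxy) (by simp; omega) ?_ c
  rw [show ⇑(Qm (η - 1) x y) = Cfsg.quadFormMinus (η - 1) F x y from funext fun v => Qm_apply _ _ _ v,
    CfsgLib.OrthOrder.card_O_minus η hη0 x y hxy]
  refine Dvd.dvd.mul_right (Dvd.dvd.mul_left ?_ _) _
  rw [← ZMod.natCast_eq_zero_iff, Nat.cast_add, Nat.cast_pow, ← hu, ← Units.val_pow_eq_pow_val, hpow]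
  simp

end CfsgLib.SemisimplePrimeClasses
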