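import Cfsg.Agent.Lib.SemisimplePrimeClasses.OrthCount

/-! Elements of prime order of orthogonal groups with a fixed vector forced by Sylow's theorem. -/

set_option autoImplicit false
set_option linter.unusedSectionVars false
set_option maxHeartbeats 1000000

namespace CfsgLib.SemisimplePrimeClasses

open Polynomial Matrix CfsgLib.OmegaSum CfsgLib.Lagrangian CfsgLib.StdQuadForms

variable {F : Type*} [Field F] [Fintype F]
variable {ι κ μ : Type} [Fintype ι] [DecidableEq ι] [Fintype κ] [DecidableEq κ] [Fintype μ] [DecidableEq μ]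
variable {r : ℕ} [Fact r.Prime]

/-- If the isometry group of an orthogonal summand has full `r`-part, then every element of order dividing `r`
has eigenvalue `1`. -/
theorem one_mem_of_summand [Nonempty μ] {Q : QuadraticForm F (ι → F)} {Q' : QuadraticForm F (κ → F)}
    {R : QuadraticForm F (μ → F)} (he : FormEquiv (Qs Q' R) Q) {t : ℕ}
    (ht : Nat.card (Cfsg.isometryGroup F ⇑Q) = Nat.card (Cfsg.isometryGroup F ⇑Q') * t) (htr : ¬ r ∣ t)
    (g : Cfsg.isometryGroup F ⇑Q) (hg : g ^ r = 1) :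
    (1 : AlgebraicClosure F) ∈ matRoots g.1.1 := by
  classical
  obtain ⟨e, he⟩ := he
  set T : Matrix ι (κ ⊕ μ) F := LinearMap.toMatrix' (e : (κ ⊕ μ → F) →ₗ[F] (ι → F)) with hT
  set S : Matrix (κ ⊕ μ) ι F := LinearMap.toMatrix' (e.symm : (ι → F) →ₗ[F] (κ ⊕ μ → F)) with hS
  have hST : S * T = 1 := by
    rw [hS, hT, ← LinearMap.toMatrix'_comp]
    simp
  have hTS : T * S = 1 := by
    rw [hS, hT, ← LinearMap.toMatrix'_comp]
    simp
  have hcard : Fintype.card (κ ⊕ μ) = Fintype.card ι := by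
    have := e.finrank_eq
    simpa using this
  let c : GL κ F →* GL ι F := MonoidHom.toHomUnits
    { toFun := fun A => T * Matrix.fromBlocks A.1 0 0 (1 : Matrix μ μ F) * S
      map_one' := by rw [Units.val_one, Matrix.fromBlocks_one, Matrix.mul_one, hTS]
      map_mul' := fun A B => by
        rw [show T * Matrix.fromBlocks A.1 0 0 (1 : Matrix μ μ F) * S * (T * Matrix.fromBlocks B.1 0 0 (1 : Matrix μ μ F) * S) =
          T * Matrix.fromBlocks A.1 0 0 (1 : Matrix μ μ F) * (S * T) * Matrix.fromBlocks B.1 0 0 (1 : Matrix μ μ F) * S by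
            simp only [Matrix.mul_assoc], hST, Matrix.mul_one, Matrix.mul_assoc T (Matrix.fromBlocks A.1 0 0 (1 : Matrix μ μ F)),
          Matrix.fromBlocks_multiply]
        simp }
  have hmem : ∀ h : Cfsg.isometryGroup F ⇑Q', c h.1 ∈ Cfsg.isometryGroup F ⇑Q := by
    intro h u _
    show Q ((T * Matrix.fromBlocks h.1.1 0 0 (1 : Matrix μ μ F) * S) *ᵥ u) = Q u
    rw [← Matrix.mulVec_mulVec, ← Matrix.mulVec_mulVec, hS, hT, LinearMap.toMatrix'_mulVec,
      LinearMap.toMatrix'_mulVec]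
    show Q (e (Matrix.fromBlocks h.1.1 0 0 (1 : Matrix μ μ F) *ᵥ e.symm u)) = Q u
    conv_rhs => rw [← e.apply_symm_apply u, he]
    rw [he, Matrix.fromBlocks_mulVec, Qs_apply, Qs_apply, Sum.elim_comp_inl, Sum.elim_comp_inr,
      Matrix.zero_mulVec, Matrix.zero_mulVec, add_zero, zero_add, Matrix.one_mulVec]
    exact congrArg (· + _) (h.2 (e.symm u ∘ Sum.inl) (e.symm u ∘ Sum.inl))
  let φ : Cfsg.isometryGroup F ⇑Q' →* Cfsg.isometryGroup F ⇑Q :=
    (c.comp (Cfsg.isometryGroup F ⇑Q').subtype).codRestrict _ hmem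
  have hφ : Function.Injective φ := by
    intro h h' hh
    have h1 : T * Matrix.fromBlocks h.1.1 0 0 (1 : Matrix μ μ F) * S = T * Matrix.fromBlocks h'.1.1 0 0 (1 : Matrix μ μ F) * S :=
      congrArg (fun z : Cfsg.isometryGroup F ⇑Q => z.1.1) hh
    have h2 := congrArg (fun X => S * X * T) h1
    simp only [show ∀ X : Matrix (κ ⊕ μ) (κ ⊕ μ) F, S * (T * X * S) * T = (S * T) * X * (S * T) from
      fun X => by simp only [Matrix.mul_assoc], hST, Matrix.one_mul, Matrix.mul_one] at h2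
    exact Subtype.ext (Units.ext (Matrix.fromBlocks_inj.1 h2).1)
  -- a Sylow subgroup inside the summand
  obtain ⟨P⟩ : Nonempty (Sylow r (Cfsg.isometryGroup F ⇑Q')) := inferInstance
  have hPc : Nat.card ((P : Subgroup _).map φ) = r ^ (Nat.card (Cfsg.isometryGroup F ⇑Q)).factorization r := by
    rw [← Nat.card_congr ((P : Subgroup _).equivMapOfInjective φ hφ).toEquiv, Sylow.card_eq_multiplicity, ht,
      Nat.factorization_mul Nat.card_pos.ne' (by rintro rfl; exact htr (dvd_zero r)), Finsupp.add_apply,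
      Nat.factorization_eq_zero_of_not_dvd htr, add_zero]
  let P' : Sylow r (Cfsg.isometryGroup F ⇑Q) := Sylow.ofCard ((P : Subgroup _).map φ) hPc
  obtain ⟨S', hS'⟩ := (IsPGroup.of_card (n := (Nat.card (Subgroup.zpowers g)).factorization r) (by
    rcases (Nat.dvd_prime (Fact.out : r.Prime)).1 (orderOf_dvd_of_pow_eq_one hg) with h | h
    · rw [Nat.card_zpowers, h]; simp
    · rw [Nat.card_zpowers, h, (Fact.out : r.Prime).factorization_self, pow_one]) :
      IsPGroup r (Subgroup.zpowers g)).exists_le_sylow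
  obtain ⟨x, hx⟩ := MulAction.exists_smul_eq (Cfsg.isometryGroup F ⇑Q) S' P'
  have hmemP : x * g * x⁻¹ ∈ (P : Subgroup _).map φ := by
    have h1 : g ∈ (S' : Subgroup _) := hS' (Subgroup.mem_zpowers g)
    have h2 : x * g * x⁻¹ ∈ ((x • S' : Sylow r (Cfsg.isometryGroup F ⇑Q)) : Subgroup _) := by
      rw [Sylow.coe_subgroup_smul]
      exact Subgroup.mem_map.2 ⟨g, h1, rfl⟩
    rwa [hx] at h2
  obtain ⟨h, -, hh⟩ := Subgroup.mem_map.1 hmemP
  have h1 : matRoots (x * g * x⁻¹).1.1 = matRoots g.1.1 := by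
    refine matRoots_eq_of_charpoly ?_
    simp only [Subgroup.coe_mul, Subgroup.coe_inv, Units.val_mul, Matrix.coe_units_inv]
    exact Matrix.charpoly_units_conj x.1 g.1.1
  rw [← h1, ← hh]
  show (1 : AlgebraicClosure F) ∈ matRoots (T * Matrix.fromBlocks h.1.1 0 0 (1 : Matrix μ μ F) * S)
  rw [matRoots_conj hST hcard]
  obtain ⟨s⟩ := ‹Nonempty μ›
  refine one_mem_matRoots (v := Sum.elim 0 (Pi.single s 1)) (fun h0 => ?_) ?_
  · simpa using congrFun h0 (Sum.inr s)
  · rw [Matrix.fromBlocks_mulVec, Sum.elim_comp_inl, Sum.elim_comp_inr, Matrix.mulVec_zero, Matrix.zero_mulVec,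
      Matrix.zero_mulVec, add_zero, zero_add, Matrix.one_mulVec]

/-- A fixed eigenvalue bounds the number of nontrivial ones. -/
theorem sum_count_lt [DecidableEq (AlgebraicClosure F)] {ζ : AlgebraicClosure F} (hζ : orderOf ζ = r)
    (M : Matrix ι ι F) (h : (1 : AlgebraicClosure F) ∈ matRoots M) :
    ∑ b : (ZMod r)ˣ, (matRoots M).count (root ζ b) < Fintype.card ι := by
  have h1 := sum_count_le hζ ((matRoots M).erase 1)
  rw [Multiset.card_erase_of_mem h, matRoots_card] at h1
  have h2 : ∀ b : (ZMod r)ˣ, ((matRoots M).erase 1).count (root ζ b) = (matRoots M).count (root ζ b) :=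
    fun b => Multiset.count_erase_of_ne (root_ne_one hζ b) _
  rw [Finset.sum_congr rfl fun b _ => h2 b] at h1
  have h3 : 0 < Fintype.card ι := matRoots_card M ▸ Multiset.card_pos_iff_exists_mem.2 ⟨1, h⟩
  rw [Nat.pred_eq_sub_one] at h1
  omega

/-- The multiplicities add up to a multiple of the orbit length. -/
theorem exists_sum_count [DecidableEq (AlgebraicClosure F)] (p a : ℕ) [Fact p.Prime] [CharP F p]
    (hF : Fintype.card F = p ^ a) {ζ : AlgebraicClosure F} (hζ : orderOf ζ = r) {u w : (ZMod r)ˣ}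
    (hu : (u : ZMod r) = (Fintype.card F : ℕ))
    (hwg : ∀ f : (ZMod r)ˣ → ℕ, (∀ a, f (a * u) = f a) → (∀ a, f (a * -1) = f a) →
      ∀ a, ∀ h ∈ Subgroup.zpowers w, f (a * h) = f a)
    {Q : QuadraticForm F (ι → F)} (hQ : (QuadraticMap.polarBilin Q).Nondegenerate)
    (g : Cfsg.isometryGroup F ⇑Q) :
    ∃ K, ∑ b : (ZMod r)ˣ, (matRoots g.1.1).count (root ζ b) = Nat.card (Subgroup.zpowers w) * K := by
  haveI : NeZero r := ⟨(Fact.out : r.Prime).ne_zero⟩
  haveI : Fintype ((ZMod r)ˣ ⧸ Subgroup.zpowers w) := Fintype.ofFinite _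
  set f := fun b : (ZMod r)ˣ => (matRoots g.1.1).count (root ζ b)
  have hf := hwg f (fun b => (count_invariant_orth p a hF hζ hQ g b u hu).1)
    (fun b => (count_invariant_orth p a hF hζ hQ g b u hu).2)
  refine ⟨∑ c : (ZMod r)ˣ ⧸ Subgroup.zpowers w, f c.out, ?_⟩
  rw [← sum_eq_mul_sum (Subgroup.zpowers w) fun c => f c.out]
  exact Finset.sum_congr rfl fun b _ => const_on_coset hf (QuotientGroup.out_eq' _).symm

end CfsgLib.SemisimplePrimeClasses
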