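import Cfsg.Agent.Lib.StdQuadForms
import Cfsg.Agent.Lib.OmegaSum
import Cfsg.Agent.Lib.SympBlocks
import Cfsg.Agent.Lib.SpinorMatrix
import Cfsg.Agent.Lib.FiniteForms.WittBasis

/-! Orthogonal sums of the standard quadratic forms. -/

set_option autoImplicit false
set_option linter.unusedSectionVars false
set_option maxHeartbeats 1000000

namespace CfsgLib.SemisimplePrimeClasses

open QuadraticMap CfsgLib.OmegaSum CfsgLib.Lagrangian CfsgLib.StdQuadForms
open scoped Matrix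

variable {F : Type*} [Field F]
variable {ι κ μ ν : Type} [Fintype ι] [DecidableEq ι] [Fintype κ] [DecidableEq κ] [Fintype μ] [DecidableEq μ]
  [Fintype ν] [DecidableEq ν]

/-- Equivalence of quadratic forms on coordinate spaces. -/
def FormEquiv (Q₁ : QuadraticForm F (ι → F)) (Q₂ : QuadraticForm F (κ → F)) : Prop :=
  ∃ e : (ι → F) ≃ₗ[F] (κ → F), ∀ v, Q₂ (e v) = Q₁ v

theorem FormEquiv.refl (Q : QuadraticForm F (ι → F)) : FormEquiv Q Q := ⟨LinearEquiv.refl F _, fun _ => rfl⟩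

theorem FormEquiv.symm {Q₁ : QuadraticForm F (ι → F)} {Q₂ : QuadraticForm F (κ → F)} (h : FormEquiv Q₁ Q₂) :
    FormEquiv Q₂ Q₁ := by
  obtain ⟨e, he⟩ := h
  exact ⟨e.symm, fun v => by rw [← he, e.apply_symm_apply]⟩

theorem FormEquiv.trans {Q₁ : QuadraticForm F (ι → F)} {Q₂ : QuadraticForm F (κ → F)}
    {Q₃ : QuadraticForm F (μ → F)} (h : FormEquiv Q₁ Q₂) (h' : FormEquiv Q₂ Q₃) : FormEquiv Q₁ Q₃ := by
  obtain ⟨e, he⟩ := h
  obtain ⟨e', he'⟩ := h'
  exact ⟨e.trans e', fun v => by rw [LinearEquiv.trans_apply, he', he]⟩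

theorem formEquiv_reindex {Q₁ : QuadraticForm F (ι → F)} {Q₂ : QuadraticForm F (κ → F)} (σ : κ ≃ ι)
    (h : ∀ v, Q₂ (v ∘ σ) = Q₁ v) : FormEquiv Q₁ Q₂ :=
  ⟨LinearEquiv.funCongrLeft F F σ, h⟩

theorem formEquiv_sum {Q₁ : QuadraticForm F (ι → F)} {Q₁' : QuadraticForm F (κ → F)}
    {Q₂ : QuadraticForm F (μ → F)} {Q₂' : QuadraticForm F (ν → F)} (h : FormEquiv Q₁ Q₁')
    (h' : FormEquiv Q₂ Q₂') : FormEquiv (Qs Q₁ Q₂) (Qs Q₁' Q₂') := by
  obtain ⟨e, he⟩ := h
  obtain ⟨e', he'⟩ := h'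
  refine ⟨((LinearEquiv.sumArrowLequivProdArrow ι μ F F).trans (e.prodCongr e')).trans
    (LinearEquiv.sumArrowLequivProdArrow κ ν F F).symm, fun v => ?_⟩
  rw [Qs_apply, Qs_apply]
  exact congrArg₂ (· + ·) (he (v ∘ Sum.inl)) (he' (v ∘ Sum.inr))

theorem formEquiv_comm (Q₁ : QuadraticForm F (ι → F)) (Q₂ : QuadraticForm F (κ → F)) :
    FormEquiv (Qs Q₁ Q₂) (Qs Q₂ Q₁) :=
  formEquiv_reindex (Equiv.sumComm κ ι) fun v => by
    rw [Qs_apply, Qs_apply, add_comm]
    rfl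

theorem formEquiv_assoc (Q₁ : QuadraticForm F (ι → F)) (Q₂ : QuadraticForm F (κ → F))
    (Q₃ : QuadraticForm F (μ → F)) : FormEquiv (Qs (Qs Q₁ Q₂) Q₃) (Qs Q₁ (Qs Q₂ Q₃)) :=
  formEquiv_reindex (Equiv.sumAssoc ι κ μ).symm fun v => by
    simp only [Qs_apply, add_assoc]
    rfl

theorem formEquiv_left_comm (Q₁ : QuadraticForm F (ι → F)) (Q₂ : QuadraticForm F (κ → F))
    (Q₃ : QuadraticForm F (μ → F)) : FormEquiv (Qs Q₁ (Qs Q₂ Q₃)) (Qs Q₂ (Qs Q₁ Q₃)) :=
  ((formEquiv_assoc Q₁ Q₂ Q₃).symm.trans (formEquiv_sum (formEquiv_comm Q₁ Q₂) (FormEquiv.refl Q₃))).trans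
    (formEquiv_assoc Q₂ Q₁ Q₃)

/-- The binary form as a form on coordinates. -/
abbrev Nb (a b : F) : QuadraticForm F (Fin 2 → F) := CfsgLib.OrthOrder.binForm a b

/-- The unary form. -/
def Uc (c : F) : QuadraticForm F (Unit → F) := c • QuadraticMap.proj () ()

theorem Uc_apply (c : F) (v : Unit → F) : Uc c v = c * (v () * v ()) := by
  simp [Uc, QuadraticMap.smul_apply]

theorem Qm_eq (m : ℕ) (a b : F) : Qm m a b = Qs (Qp m F) (Nb a b) := rfl

theorem Qo_eq (m : ℕ) : Qo (F := F) m = Qs (Uc 1) (Qp m F) := by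
  ext v
  simp [Qs_apply, Uc_apply, Qo_apply, Qp_apply, Cfsg.quadFormOdd, Cfsg.quadFormPlus, _root_.sq]

theorem Uc_nondeg (h2 : (2 : F) ≠ 0) {c : F} (hc : c ≠ 0) : (polarBilin (Uc c)).Nondegenerate := by
  have hl : ∀ u : Unit → F, (∀ v, polar (Uc c) u v = 0) → u = 0 := fun u h => by
    funext x
    have := h 1
    simp [polar, Uc_apply] at this
    have h3 : (2 * c) * u () = 0 := by linear_combination this
    exact (mul_eq_zero.1 h3).resolve_left (mul_ne_zero h2 hc)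
  exact ⟨fun u h => hl u h, fun v h => hl v fun u => (polar_comm _ v u).trans (h u)⟩

theorem qp_add (a b : ℕ) : FormEquiv (Qs (Qp a F) (Qp b F)) (Qp (a + b) F) :=
  formEquiv_reindex (CfsgLib.SympBlocks.e a b) fun v => by
    rw [Qs_apply, Qp_apply, Qp_apply, Qp_apply]
    simp [Cfsg.quadFormPlus, Fin.sum_univ_add, CfsgLib.SympBlocks.e, Equiv.sumSumSumComm]

theorem qm_add (a b : ℕ) (x y : F) : FormEquiv (Qs (Qp a F) (Qm b x y)) (Qm (a + b) x y) := by
  rw [Qm_eq, Qm_eq]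
  exact (formEquiv_assoc _ _ _).symm.trans (formEquiv_sum (qp_add a b) (FormEquiv.refl _))

theorem qo_add (a b : ℕ) : FormEquiv (Qs (Qp a F) (Qo b)) (Qo (F := F) (a + b)) := by
  rw [Qo_eq, Qo_eq]
  exact (formEquiv_left_comm _ _ _).trans (formEquiv_sum (FormEquiv.refl _) (qp_add a b))

/-- Multiplication in the quadratic algebra attached to a binary form. -/
def mulMat (a b : F) (p : Fin 2 → F) : Matrix (Fin 2) (Fin 2) F := !![p 0, -b * p 1; p 1, p 0 + a * p 1]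

theorem Nb_mulMat (a b : F) (p z : Fin 2 → F) : Nb a b (mulMat a b p *ᵥ z) = Nb a b p * Nb a b z := by
  simp only [CfsgLib.OrthOrder.binForm_apply, mulMat, Matrix.mulVec, dotProduct, Fin.sum_univ_two,
    Matrix.cons_val', Matrix.cons_val_zero, Matrix.cons_val_one, Matrix.of_apply, Matrix.empty_val',
    Matrix.cons_val_fin_one]
  ring

variable [Fintype F]

theorem exists_neg_one {a b : F} (hab : ∀ z₁ z₂ : F, z₁ ^ 2 + a * z₁ * z₂ + b * z₂ ^ 2 = 0 → z₁ = 0 ∧ z₂ = 0) :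
    ∃ p : Fin 2 → F, Nb a b p = -1 := by
  by_cases h2 : (2 : F) = 0
  · refine ⟨![1, 0], ?_⟩
    rw [CfsgLib.OrthOrder.binForm_apply]
    simp only [Matrix.cons_val_zero, Matrix.cons_val_one]
    linear_combination h2
  · exact CfsgLib.SpinorMatrix.universal (Nb a b) h2
      ⟨fun u h => CfsgLib.OrthOrder.bin_nondeg hab u h,
        fun v h => CfsgLib.OrthOrder.bin_nondeg hab v fun u => (polar_comm _ v u).trans (h u)⟩
      (by simp) (neg_ne_zero.2 one_ne_zero)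

/-- Two anisotropic planes make a hyperbolic space. -/
theorem nb_add_nb {a b : F} (hab : ∀ z₁ z₂ : F, z₁ ^ 2 + a * z₁ * z₂ + b * z₂ ^ 2 = 0 → z₁ = 0 ∧ z₂ = 0) :
    FormEquiv (Qs (Nb a b) (Nb a b)) (Qp 2 F) := by
  obtain ⟨p, hp⟩ := exists_neg_one hab
  have hN : (polarBilin (Nb a b)).Nondegenerate := ⟨fun u h => CfsgLib.OrthOrder.bin_nondeg hab u h,
    fun v h => CfsgLib.OrthOrder.bin_nondeg hab v fun u => (polar_comm _ v u).trans (h u)⟩
  have hnd : CfsgLib.FiniteForms.PolarNondeg (Qs (Nb a b) (Nb a b)) := fun x h => (Qs_nondeg _ _ hN hN).1 x h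
  have hd : Module.finrank F (Fin 2 ⊕ Fin 2 → F) = 2 * 2 := by simp
  rcases CfsgLib.FiniteForms.even_dichotomy hnd (m := 2) (by norm_num) hd with ⟨e, f, h⟩ | h
  · obtain ⟨g, hg⟩ := CfsgLib.FiniteForms.isometry_of_hypFam h hd
    exact ⟨g, fun v => by rw [Qp_apply, hg]⟩
  · obtain ⟨e, f, x, y, h, hx, hy, hQx, hxy, ht, hli⟩ := h
    obtain ⟨g, hg⟩ := CfsgLib.FiniteForms.isometry_of_elliptic h hx hy hxy hQx hli (by simp)
    exfalso
    let L : (Fin 2 → F) →ₗ[F] (Fin 2 ⊕ Fin 2 → F) :=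
      { toFun := fun z => Sum.elim z (mulMat a b p *ᵥ z)
        map_add' := fun z w => by rw [Matrix.mulVec_add]; funext i; rcases i with i | i <;> rfl
        map_smul' := fun c z => by rw [Matrix.mulVec_smul]; funext i; rcases i with i | i <;> rfl }
    have hL : ∀ z, Qs (Nb a b) (Nb a b) (L z) = 0 := fun z => by
      show Qs (Nb a b) (Nb a b) (Sum.elim z (mulMat a b p *ᵥ z)) = 0
      rw [Qs_apply, Sum.elim_comp_inl, Sum.elim_comp_inr, Nb_mulMat, hp]
      ring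
    have := CfsgLib.FiniteForms.minus_totally_singular_le
      (CfsgLib.FiniteForms.anisotropic_of_no_root ht)
      (((LinearMap.range L).map g.toLinearMap)) (by
        rintro _ ⟨_, ⟨z, rfl⟩, rfl⟩
        rw [LinearEquiv.coe_coe, ← hg, hL])
    rw [LinearEquiv.finrank_map_eq, LinearMap.finrank_range_of_inj (fun z w h => funext fun i =>
      congrFun h (Sum.inl i)), Module.finrank_fin_fun] at this
    omega

theorem qm_add_qm {a b : F} (hab : ∀ z₁ z₂ : F, z₁ ^ 2 + a * z₁ * z₂ + b * z₂ ^ 2 = 0 → z₁ = 0 ∧ z₂ = 0)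
    (k l : ℕ) : FormEquiv (Qs (Qm k a b) (Qm l a b)) (Qp (k + l + 2) F) := by
  rw [Qm_eq, Qm_eq]
  refine ((formEquiv_assoc _ _ _).trans (formEquiv_sum (FormEquiv.refl _) (formEquiv_left_comm _ _ _))).trans ?_
  refine (formEquiv_assoc _ _ _).symm.trans ?_
  exact (formEquiv_sum (qp_add k l) (nb_add_nb hab)).trans (qp_add (k + l) 2)

/-- An anisotropic plane plus a suitable line is the standard three-dimensional form. -/
theorem nb_add_unit (h2 : (2 : F) ≠ 0) {a b : F}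
    (hab : ∀ z₁ z₂ : F, z₁ ^ 2 + a * z₁ * z₂ + b * z₂ ^ 2 = 0 → z₁ = 0 ∧ z₂ = 0) :
    ∃ c : F, c ≠ 0 ∧ FormEquiv (Qs (Nb a b) (Uc c)) (Qo (F := F) 1) := by
  set c := (a * a - 4 * b) / 4 with hc
  have h4 : (4 : F) ≠ 0 := by
    have := mul_ne_zero h2 h2
    intro h; apply this; linear_combination h
  have hc0 : c ≠ 0 := by
    intro h0
    rw [hc, div_eq_zero_iff] at h0
    obtain ⟨-, h1⟩ := hab (-(a / 2)) 1 (by
      field_simp
      linear_combination -(h0.resolve_right h4))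
    exact one_ne_zero h1
  refine ⟨c, hc0, ?_⟩
  let f : (Fin 2 ⊕ Unit → F) →ₗ[F] (Unit ⊕ (Fin 1 ⊕ Fin 1) → F) :=
    { toFun := fun v => Sum.elim (fun _ => v (.inl 0) + a / 2 * v (.inl 1))
        (Sum.elim (fun _ => c * (v (.inr ()) - v (.inl 1))) fun _ => v (.inr ()) + v (.inl 1))
      map_add' := fun v w => by funext s; rcases s with s | s | s <;> simp <;> ring
      map_smul' := fun t v => by funext s; rcases s with s | s | s <;> simp <;> ring }
  have hinj : Function.Injective f := fun v w h => by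
    have h0 := congrFun h (.inl ())
    have h1 := congrFun h (.inr (.inl 0))
    have h3 := congrFun h (.inr (.inr 0))
    simp [f] at h0 h1 h3
    have e1 := h1.resolve_right hc0
    have ew : v (.inr ()) = w (.inr ()) := mul_left_cancel₀ h2 (by linear_combination e1 + h3)
    have e2 : v (.inl 1) = w (.inl 1) := mul_left_cancel₀ h2 (by linear_combination h3 - e1)
    funext s
    rcases s with s | s
    · fin_cases s
      · rw [e2] at h0
        simpa using h0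
      · exact e2
    · exact ew
  refine ⟨LinearEquiv.ofInjectiveOfFinrankEq f hinj (by simp), fun v => ?_⟩
  show Qo 1 (f v) = _
  rw [Qo_apply, Qs_apply, Uc_apply, CfsgLib.OrthOrder.binForm_apply]
  simp [f, Cfsg.quadFormOdd, hc]
  field_simp
  ring

end CfsgLib.SemisimplePrimeClasses
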