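import Cfsg.Agent.Lib.SemisimplePrimeClasses.Roots
import Cfsg.Agent.Lib.SemisimplePrimeClasses.OrthModels
import Cfsg.Agent.Lib.SpectrumPowers.SympBound
import Cfsg.Agent.Lib.OrthOrderBase
import Cfsg.Agent.Lib.FiniteForms.Quad
import Cfsg.Agent.Lib.SemisimpleCount.Basic

/-! Eigenvalues of orthogonal elements of prime order. -/

set_option autoImplicit false
set_option linter.unusedSectionVars false
set_option maxHeartbeats 1000000

namespace CfsgLib.SemisimplePrimeClasses

open Polynomial Matrix CfsgLib.OmegaSum CfsgLib.Lagrangian CfsgLib.StdQuadForms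

variable {F : Type*} [Field F] [Fintype F]
variable {ι κ : Type} [Fintype ι] [DecidableEq ι] [Fintype κ] [DecidableEq κ]

/-- The eigenvalues of a square matrix over an algebraic closure. -/
noncomputable def matRoots (M : Matrix ι ι F) : Multiset (AlgebraicClosure F) :=
  (M.map (algebraMap F (AlgebraicClosure F))).charpoly.roots

theorem matRoots_card (M : Matrix ι ι F) : Multiset.card (matRoots M) = Fintype.card ι := by
  rw [matRoots, IsAlgClosed.card_roots_eq_natDegree, Matrix.charpoly_natDegree_eq_dim]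

theorem prod_matRoots (M : Matrix ι ι F) :
    M.charpoly.map (algebraMap F (AlgebraicClosure F)) = ((matRoots M).map fun t => X - C t).prod := by
  rw [← Matrix.charpoly_map]
  exact (IsAlgClosed.splits _).eq_prod_roots_of_monic (Matrix.charpoly_monic _)

theorem charpoly_eq_of_matRoots {M N : Matrix ι ι F} (h : matRoots M = matRoots N) :
    M.charpoly = N.charpoly :=
  Polynomial.map_injective _ (algebraMap F (AlgebraicClosure F)).injective (by
    rw [prod_matRoots, prod_matRoots, h])

theorem matRoots_eq_of_charpoly {M : Matrix ι ι F} {N : Matrix κ κ F} (h : M.charpoly = N.charpoly) :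
    matRoots M = matRoots N := by
  rw [matRoots, matRoots, Matrix.charpoly_map, Matrix.charpoly_map, h]

theorem matRoots_pow {M : Matrix ι ι F} {r : ℕ} (hM : M ^ r = 1) {t : AlgebraicClosure F}
    (ht : t ∈ matRoots M) : t ^ r = 1 := by
  haveI : Nonempty ι := by
    by_contra h
    haveI := not_nonempty_iff.1 h
    have h1 := Multiset.card_pos_iff_exists_mem.2 ⟨t, ht⟩
    rw [matRoots_card, Fintype.card_eq_zero] at h1
    exact lt_irrefl 0 h1
  rw [matRoots, mem_roots (Matrix.charpoly_monic _).ne_zero, ← Matrix.mem_spectrum_iff_isRoot_charpoly] at ht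
  have h := spectrum.subset_polynomial_aeval (M.map (algebraMap F (AlgebraicClosure F))) (X ^ r) ⟨t, ht, rfl⟩
  rw [map_pow, aeval_X, ← Matrix.map_pow, hM, Matrix.map_one _ (map_zero _) (map_one _), spectrum.one_eq,
    Set.mem_singleton_iff] at h
  simpa using h

theorem pow_mem_matRoots [Nonempty ι] (M : Matrix ι ι F) {t : AlgebraicClosure F} (ht : t ∈ matRoots M) (k : ℕ) :
    t ^ k ∈ matRoots (M ^ k) := by
  rw [matRoots, mem_roots (Matrix.charpoly_monic _).ne_zero, ← Matrix.mem_spectrum_iff_isRoot_charpoly] at ht ⊢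
  have h := spectrum.subset_polynomial_aeval (M.map (algebraMap F (AlgebraicClosure F))) (X ^ k) ⟨t, ht, rfl⟩
  rw [map_pow, aeval_X, ← Matrix.map_pow] at h
  simpa using h

theorem one_mem_matRoots {M : Matrix ι ι F} {v : ι → F} (hv : v ≠ 0) (h : M *ᵥ v = v) :
    (1 : AlgebraicClosure F) ∈ matRoots M := by
  rw [matRoots, mem_roots (Matrix.charpoly_monic _).ne_zero, IsRoot, Matrix.charpoly_map,
    ← map_one (algebraMap F (AlgebraicClosure F)), eval_map, eval₂_hom, Matrix.eval_charpoly, _root_.map_eq_zero]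
  exact Matrix.exists_mulVec_eq_zero_iff.1 ⟨v, hv, by rw [Matrix.sub_mulVec, h, map_one, Matrix.one_mulVec, sub_self]⟩

theorem matRoots_one {t : AlgebraicClosure F} (ht : t ∈ matRoots (1 : Matrix ι ι F)) : t = 1 := by
  have := matRoots_pow (pow_one (1 : Matrix ι ι F)) ht
  rwa [pow_one] at this

theorem matRoots_conj {T : Matrix κ ι F} {S : Matrix ι κ F} (hST : S * T = 1) (hcard : Fintype.card ι = Fintype.card κ)
    (M : Matrix ι ι F) : matRoots (T * M * S) = matRoots M := by
  refine matRoots_eq_of_charpoly ?_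
  have h := Matrix.charpoly_mul_comm' (T * M) S
  rw [hcard] at h
  have h1 := mul_left_cancel₀ (pow_ne_zero _ X_ne_zero) h
  rw [h1, ← Matrix.mul_assoc, hST, Matrix.one_mul]

/-- Some element of the isometry group has the given nontrivial multiplicities. -/
def Realises {r : ℕ} [Fact r.Prime] (ζ : AlgebraicClosure F) (Q : QuadraticForm F (ι → F)) (f : (ZMod r)ˣ → ℕ) : Prop :=
  ∃ g : Cfsg.isometryGroup F ⇑Q, g ^ r = 1 ∧
    ∀ a : (ZMod r)ˣ, open Classical in (matRoots g.1.1).count (root ζ a) = f a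

variable {r : ℕ} [Fact r.Prime] {ζ : AlgebraicClosure F}

theorem realises_zero (hζ : orderOf ζ = r) (Q : QuadraticForm F (ι → F)) :
    Realises ζ Q (fun _ : (ZMod r)ˣ => 0) := by
  classical
  exact ⟨1, one_pow r, fun a => Multiset.count_eq_zero.2 fun h => root_ne_one hζ a (matRoots_one h)⟩

theorem realises_transfer {Q : QuadraticForm F (ι → F)} {Q' : QuadraticForm F (κ → F)} {f : (ZMod r)ˣ → ℕ}
    (he : FormEquiv Q Q') (h : Realises ζ Q f) : Realises ζ Q' f := by
  classical
  obtain ⟨e, he⟩ := he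
  obtain ⟨g, hg, hgf⟩ := h
  set T : Matrix κ ι F := LinearMap.toMatrix' (e : (ι → F) →ₗ[F] (κ → F)) with hT
  set S : Matrix ι κ F := LinearMap.toMatrix' (e.symm : (κ → F) →ₗ[F] (ι → F)) with hS
  have hST : S * T = 1 := by
    rw [hS, hT, ← LinearMap.toMatrix'_comp]
    simp
  have hTS : T * S = 1 := by
    rw [hS, hT, ← LinearMap.toMatrix'_comp]
    simp
  have hcard : Fintype.card ι = Fintype.card κ := by
    have := e.finrank_eq
    simpa using this
  let c : GL ι F →* GL κ F := Units.map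
    { toFun := fun M => T * M * S
      map_one' := by rw [Matrix.mul_one, hTS]
      map_mul' := fun M N => by
        rw [show T * M * S * (T * N * S) = T * M * (S * T) * N * S by simp only [Matrix.mul_assoc], hST,
          Matrix.mul_one, Matrix.mul_assoc T M N] }
  have hc : c g.1 ∈ Cfsg.isometryGroup F ⇑Q' := by
    intro u _
    show Q' ((T * g.1.1 * S) *ᵥ u) = Q' u
    rw [← Matrix.mulVec_mulVec, ← Matrix.mulVec_mulVec, hS, hT, LinearMap.toMatrix'_mulVec,
      LinearMap.toMatrix'_mulVec]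
    show Q' (e (g.1.1 *ᵥ e.symm u)) = Q' u
    rw [he]
    refine (g.2 (e.symm u) (e.symm u)).trans ?_
    show Q (e.symm u) = Q' u
    rw [← he, e.apply_symm_apply]
  refine ⟨⟨c g.1, hc⟩, Subtype.ext ?_, fun a => ?_⟩
  · show (c g.1) ^ r = 1
    rw [← map_pow, ← SubmonoidClass.coe_pow, hg, OneMemClass.coe_one, map_one]
  · show (matRoots (T * g.1.1 * S)).count _ = _
    rw [matRoots_conj hST hcard, hgf]

theorem realises_sum {Q : QuadraticForm F (ι → F)} {Q' : QuadraticForm F (κ → F)} {f f' : (ZMod r)ˣ → ℕ}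
    (h : Realises ζ Q f) (h' : Realises ζ Q' f') : Realises ζ (Qs Q Q') (fun a => f a + f' a) := by
  classical
  obtain ⟨g, hg, hgf⟩ := h
  obtain ⟨g', hg', hgf'⟩ := h'
  let φ : GL ι F × GL κ F →* GL (ι ⊕ κ) F := MonoidHom.toHomUnits
    { toFun := fun p => Matrix.fromBlocks p.1.1 0 0 p.2.1
      map_one' := by simp [Matrix.fromBlocks_one]
      map_mul' := fun p p' => by simp [Matrix.fromBlocks_multiply] }
  have hmem : φ (g.1, g'.1) ∈ Cfsg.isometryGroup F ⇑(Qs Q Q') := by
    intro u _
    show Qs Q Q' (Matrix.fromBlocks g.1.1 0 0 g'.1.1 *ᵥ u) = Qs Q Q' u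
    rw [Qs_apply, Qs_apply, Matrix.fromBlocks_mulVec, Sum.elim_comp_inl, Sum.elim_comp_inr,
      Matrix.zero_mulVec, Matrix.zero_mulVec, add_zero, zero_add]
    exact congrArg₂ (· + ·) (g.2 _ (u ∘ Sum.inl)) (g'.2 _ (u ∘ Sum.inr))
  refine ⟨⟨_, hmem⟩, Subtype.ext ?_, fun a => ?_⟩
  · show φ (g.1, g'.1) ^ r = 1
    rw [← map_pow, Prod.pow_mk, ← SubmonoidClass.coe_pow, ← SubmonoidClass.coe_pow, hg, hg']
    exact map_one φ
  · show (matRoots (Matrix.fromBlocks g.1.1 0 0 g'.1.1)).count _ = _
    have : matRoots (Matrix.fromBlocks g.1.1 0 0 g'.1.1) = matRoots g.1.1 + matRoots g'.1.1 := by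
      rw [matRoots, Matrix.charpoly_map, Matrix.charpoly_fromBlocks_zero₁₂, Polynomial.map_mul,
        ← Matrix.charpoly_map, ← Matrix.charpoly_map,
        roots_mul (mul_ne_zero (Matrix.charpoly_monic _).ne_zero (Matrix.charpoly_monic _).ne_zero)]
      rfl
    rw [this, Multiset.count_add, hgf, hgf']

theorem pow_eq_one_val {Q : (ι → F) → F} {g : Cfsg.isometryGroup F Q} {n : ℕ} (hg : g ^ n = 1) :
    g.1.1 ^ n = 1 := by
  rw [← Units.val_pow_eq_pow_val, ← SubmonoidClass.coe_pow, hg, OneMemClass.coe_one, Units.val_one]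

theorem eq_one_of_matRoots_one (p : ℕ) [Fact p.Prime] [CharP F p] (hrp : r ≠ p)
    {M : Matrix ι ι F} (hM : M ^ r = 1) (h : ∀ t ∈ matRoots M, t = 1) : M = 1 := by
  classical
  cases isEmpty_or_nonempty ι
  · exact Subsingleton.elim _ _
  haveI : CharP (AlgebraicClosure F) p :=
    charP_of_injective_algebraMap (algebraMap F (AlgebraicClosure F)).injective p
  have h1 := CfsgLib.SpectrumPowers.pow_eq_one_of_roots p (M.map (algebraMap F (AlgebraicClosure F))) one_pos
    (e := Fintype.card ι) fun t ht => ⟨by rw [pow_one]; exact h t ht,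
      le_of_le_of_eq (Multiset.count_le_card t _) (matRoots_card M)⟩
  rw [mul_one, ← Matrix.map_pow, ← Matrix.map_one (algebraMap F (AlgebraicClosure F)) (map_zero _) (map_one _)] at h1
  have h2 := Matrix.map_injective (algebraMap F (AlgebraicClosure F)).injective h1
  refine orderOf_eq_one_iff.1 (Nat.eq_one_of_dvd_coprimes ?_ (orderOf_dvd_of_pow_eq_one hM)
    (orderOf_dvd_of_pow_eq_one h2))
  exact ((Nat.coprime_primes Fact.out (Fact.out : p.Prime)).2 hrp).pow_right _

theorem matRoots_invariant (p a : ℕ) [Fact p.Prime] [CharP F p] (hF : Fintype.card F = p ^ a)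
    {Q : QuadraticForm F (ι → F)} (hQ : (QuadraticMap.polarBilin Q).Nondegenerate)
    (g : Cfsg.isometryGroup F ⇑Q) :
    (matRoots g.1.1).map (fun t => t ^ Fintype.card F) = matRoots g.1.1 ∧
      (matRoots g.1.1).map (·⁻¹) = matRoots g.1.1 := by
  classical
  haveI : CharP (AlgebraicClosure F) p :=
    charP_of_injective_algebraMap (algebraMap F (AlgebraicClosure F)).injective p
  set ι' := algebraMap F (AlgebraicClosure F) with hι
  set Ab := g.1.1.map ι' with hAb
  set fr : AlgebraicClosure F →+* AlgebraicClosure F := iterateFrobenius _ p a with hfr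
  have hfrx : ∀ x, fr x = x ^ Fintype.card F := fun x => by rw [hfr, iterateFrobenius_def, hF]
  constructor
  · have h := (IsAlgClosed.splits Ab.charpoly).roots_map fr
    rw [← Matrix.charpoly_map, show Ab.map fr = Ab by
      ext x y; simp [hAb, hfrx, ← map_pow, FiniteField.pow_card]] at h
    conv_rhs => rw [matRoots, ← hAb, h]
    exact Multiset.map_congr rfl fun t _ => (hfrx t).symm
  · have hne0 : (0 : AlgebraicClosure F) ∉ matRoots g.1.1 := fun h => by
      have := matRoots_pow (pow_eq_one_val (pow_orderOf_eq_one g)) h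
      rw [zero_pow (orderOf_pos g).ne'] at this
      exact zero_ne_one this
    set G := CfsgLib.FiniteForms.polarMat ⇑Q
    have hG : IsUnit G.det := isUnit_iff_ne_zero.2 (CfsgLib.FiniteForms.polarMat_det_ne_zero hQ)
    have hgG : g.1.1ᵀ * G * g.1.1 = G := by
      refine Matrix.ext fun j i => ?_
      have e : ∀ u, Q (g.1.1 *ᵥ u) = Q u := fun u => g.2 u u
      have : (g.1.1 *ᵥ Pi.single i 1) ⬝ᵥ (G *ᵥ (g.1.1 *ᵥ Pi.single j 1)) =
          (Pi.single i 1 : ι → F) ⬝ᵥ (G *ᵥ Pi.single j 1) := by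
        rw [← CfsgLib.FiniteForms.polar_eq, ← CfsgLib.FiniteForms.polar_eq]
        simp only [QuadraticMap.polar, ← Matrix.mulVec_add, e]
      rw [Matrix.dotProduct_mulVec _ _ (g.1.1 *ᵥ Pi.single j 1), ← Matrix.mulVec_transpose,
        Matrix.mulVec_mulVec, Matrix.dotProduct_mulVec, ← Matrix.mulVec_transpose, Matrix.mulVec_mulVec] at this
      rw [Matrix.mulVec_single_one] at this
      simp [Matrix.transpose_mul] at this
      rw [show Gᵀ = G from CfsgLib.FiniteForms.polarMat_isSymm ⇑Q] at this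
      have hs : G i j = G j i := (CfsgLib.FiniteForms.polarMat_isSymm ⇑Q).apply j i
      rw [← hs]
      simpa [Matrix.mul_assoc] using this
    have hu : IsUnit g.1.1 := g.1.isUnit
    have hinv : g.1.1⁻¹ = G⁻¹ * g.1.1ᵀ * G := Matrix.inv_eq_left_inv (by
      rw [Matrix.mul_assoc, Matrix.mul_assoc, ← Matrix.mul_assoc g.1.1ᵀ, hgG, Matrix.nonsing_inv_mul _ hG])
    have hchar : g.1.1⁻¹.charpoly = g.1.1.charpoly := by
      rw [hinv, Matrix.charpoly_mul_comm, ← Matrix.mul_assoc, Matrix.mul_nonsing_inv _ hG, Matrix.one_mul,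
        Matrix.charpoly_transpose]
    have h : g.1.1.charpoly = C ((-1) ^ Fintype.card ι * g.1.1.det⁻¹) * g.1.1.charpoly.reverse := by
      conv_lhs => rw [← hchar]
      ext k
      rw [coeff_C_mul, coeff_reverse, Matrix.charpoly_natDegree_eq_dim]
      rcases le_or_gt k (Fintype.card ι) with hk | hk
      · rw [revAt_le hk, CfsgLib.SemisimpleCount.charpoly_inv_coeff _ hu hk]
      · rw [show revAt (Fintype.card ι) k = k by
          show (if k ≤ Fintype.card ι then Fintype.card ι - k else k) = k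
          rw [if_neg (by omega)]]
        have hdeg : ∀ A : Matrix ι ι F, A.charpoly.coeff k = 0 := fun A =>
          coeff_eq_zero_of_natDegree_lt (by rw [Matrix.charpoly_natDegree_eq_dim]; exact hk)
        rw [hdeg, hdeg, mul_zero]
    conv_rhs => rw [matRoots, Matrix.charpoly_map, h, Polynomial.map_mul, map_C, roots_C_mul _ (by
      rw [_root_.map_ne_zero]
      exact mul_ne_zero (pow_ne_zero _ (neg_ne_zero.2 one_ne_zero))
        (inv_ne_zero ((Matrix.isUnit_iff_isUnit_det _).1 hu).ne_zero))]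
    rw [← CfsgLib.SpectrumPowers.roots_reverse_prod _ hne0, ← prod_matRoots]
    congr 1
    ext k
    rw [coeff_map, coeff_reverse, coeff_reverse, Polynomial.natDegree_map, coeff_map]

theorem count_invariant_orth [DecidableEq (AlgebraicClosure F)] (p a : ℕ) [Fact p.Prime] [CharP F p]
    (hF : Fintype.card F = p ^ a) (hζ : orderOf ζ = r)
    {Q : QuadraticForm F (ι → F)} (hQ : (QuadraticMap.polarBilin Q).Nondegenerate)
    (g : Cfsg.isometryGroup F ⇑Q) (c u : (ZMod r)ˣ) (hu : (u : ZMod r) = (Fintype.card F : ℕ)) :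
    (matRoots g.1.1).count (root ζ (c * u)) = (matRoots g.1.1).count (root ζ c) ∧
      (matRoots g.1.1).count (root ζ (c * -1)) = (matRoots g.1.1).count (root ζ c) := by
  obtain ⟨h1, h2⟩ := matRoots_invariant p a hF hQ g
  haveI : CharP (AlgebraicClosure F) p :=
    charP_of_injective_algebraMap (algebraMap F (AlgebraicClosure F)).injective p
  have hinj : Function.Injective (fun t : AlgebraicClosure F => t ^ Fintype.card F) := fun x y h => by
    refine (iterateFrobenius (AlgebraicClosure F) p a).injective ?_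
    simpa [iterateFrobenius_def, ← hF] using h
  constructor
  · rw [← root_mul_pow hζ c u (Fintype.card F) hu.symm]
    conv_lhs => rw [← h1]
    exact Multiset.count_map_eq_count' _ _ hinj _
  · rw [root_neg hζ]
    conv_lhs => rw [← h2]
    exact Multiset.count_map_eq_count' _ _ inv_injective _

/-- A block with one orbit of eigenvalues. -/
theorem realises_block (p a : ℕ) [Fact p.Prime] [CharP F p] (hF : Fintype.card F = p ^ a) (hrp : r ≠ p)
    (hζ : orderOf ζ = r) {u w : (ZMod r)ˣ} (hu : (u : ZMod r) = (Fintype.card F : ℕ))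
    (hwg : ∀ f : (ZMod r)ˣ → ℕ, (∀ a, f (a * u) = f a) → (∀ a, f (a * -1) = f a) →
      ∀ a, ∀ h ∈ Subgroup.zpowers w, f (a * h) = f a)
    {η : ℕ} (hη : Nat.card (Subgroup.zpowers w) = 2 * η) {Q : QuadraticForm F (ι → F)}
    (hQ : (QuadraticMap.polarBilin Q).Nondegenerate) (hdim : Fintype.card ι = 2 * η)
    (hcard : r ∣ Nat.card (Cfsg.isometryGroup F ⇑Q)) (c : (ZMod r)ˣ ⧸ Subgroup.zpowers w)
    [DecidableEq ((ZMod r)ˣ ⧸ Subgroup.zpowers w)] :
    Realises ζ Q (fun b : (ZMod r)ˣ => if QuotientGroup.mk b = c then 1 else 0) := by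
  classical
  have hr : r.Prime := Fact.out
  obtain ⟨x, hx⟩ := exists_prime_orderOf_dvd_card' r hcard
  have hxr : x ^ r = 1 := orderOf_dvd_iff_pow_eq_one.1 hx.dvd
  obtain ⟨t, ht, ht1⟩ : ∃ t ∈ matRoots x.1.1, t ≠ 1 := by
    by_contra hc
    push Not at hc
    have := eq_one_of_matRoots_one (r := r) p hrp (pow_eq_one_val hxr) hc
    have h1 : x = 1 := Subtype.ext (Units.ext this)
    rw [h1, orderOf_one] at hx
    exact hr.one_lt.ne hx
  haveI : Nonempty ι := Fintype.card_pos_iff.1 (by
    have h1 := Multiset.card_pos_iff_exists_mem.2 ⟨t, ht⟩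
    rwa [matRoots_card] at h1)
  obtain ⟨a0, rfl⟩ := exists_root_eq hζ (matRoots_pow (pow_eq_one_val hxr) ht) ht1
  haveI : NeZero r := ⟨hr.ne_zero⟩
  set y := x ^ ((a0⁻¹ * c.out : (ZMod r)ˣ) : ZMod r).val with hy
  have hyr : y ^ r = 1 := by rw [hy, ← pow_mul, mul_comm, pow_mul, hxr, one_pow]
  have hroot : root ζ c.out ∈ matRoots y.1.1 := by
    have := pow_mem_matRoots x.1.1 ht ((a0⁻¹ * c.out : (ZMod r)ˣ) : ZMod r).val
    rw [root_mul_pow hζ a0 (a0⁻¹ * c.out) _ (ZMod.natCast_zmod_val _), mul_inv_cancel_left] at this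
    rwa [hy, SubmonoidClass.coe_pow, Units.val_pow_eq_pow_val]
  refine ⟨y, hyr, ?_⟩
  set f := fun b : (ZMod r)ˣ => (matRoots y.1.1).count (root ζ b) with hfdef
  have hf := hwg f (fun b => (count_invariant_orth p a hF hζ hQ y b u hu).1)
    (fun b => (count_invariant_orth p a hF hζ hQ y b u hu).2)
  haveI : Fintype ((ZMod r)ˣ ⧸ Subgroup.zpowers w) := Fintype.ofFinite _
  have hcoset : ∀ b, QuotientGroup.mk b = c → f b = f c.out := fun b hb =>
    const_on_coset hf (hb.trans (QuotientGroup.out_eq' c).symm)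
  have h1 : 1 ≤ f c.out := Multiset.one_le_count_iff_mem.2 hroot
  have h2 : ∑ b : (ZMod r)ˣ, f b ≤ 2 * η := le_of_le_of_eq (sum_count_le hζ _) (by rw [matRoots_card, hdim])
  have h3 : ∑ b : (ZMod r)ˣ, (if QuotientGroup.mk b = c then 1 else 0) = 2 * η := by
    rw [sum_eq_mul_sum (Subgroup.zpowers w) fun d => if d = c then 1 else 0]
    simp [-Nat.card_eq_fintype_card, hη]
  have h4 : ∀ b ∈ (Finset.univ : Finset (ZMod r)ˣ), (if QuotientGroup.mk b = c then 1 else 0) ≤ f b := by
    intro b _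
    split_ifs with hb
    · rw [hcoset b hb]; exact h1
    · exact Nat.zero_le _
  intro b
  exact ((Finset.sum_eq_sum_iff_of_le h4).1 (le_antisymm (Finset.sum_le_sum h4) (h2.trans h3.ge)) b
    (Finset.mem_univ b)).symm

end CfsgLib.SemisimplePrimeClasses
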