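import Cfsg.Agent.Lib.SemisimplePrimeClasses.Count
import Mathlib

/-! Eigenvalues which are `r`-th roots of unity, indexed by `(ZMod r)ˣ`. -/

set_option autoImplicit false

namespace CfsgLib.SemisimplePrimeClasses

open Polynomial

variable {Ω : Type*} [Field Ω] {r : ℕ} [Fact r.Prime] {ζ : Ω}

/-- The root of unity attached to a unit modulo `r`. -/
def root (ζ : Ω) (a : (ZMod r)ˣ) : Ω := ζ ^ (a : ZMod r).val

variable (hζ : orderOf ζ = r)

include hζ

theorem root_pow (a : (ZMod r)ˣ) : root ζ a ^ r = 1 := by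
  rw [root, ← pow_mul, mul_comm, pow_mul, orderOf_dvd_iff_pow_eq_one.1 hζ.dvd, one_pow]

theorem pow_eq_iff (i j : ℕ) : ζ ^ i = ζ ^ j ↔ (i : ZMod r) = j := by
  have hfin : IsOfFinOrder ζ := orderOf_pos_iff.1 (hζ ▸ (Fact.out : r.Prime).pos)
  rw [hfin.pow_eq_pow_iff_modEq, hζ, ZMod.natCast_eq_natCast_iff]

theorem root_injective : Function.Injective (root (r := r) ζ) := fun a b h => by
  refine Units.ext ?_
  have := (pow_eq_iff hζ _ _).1 h
  rwa [ZMod.natCast_zmod_val, ZMod.natCast_zmod_val] at this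

theorem root_ne_one (a : (ZMod r)ˣ) : root ζ a ≠ 1 := fun h => by
  have := (pow_eq_iff hζ _ 0).1 (h.trans (pow_zero ζ).symm)
  rw [ZMod.natCast_zmod_val, Nat.cast_zero] at this
  exact a.ne_zero this

theorem exists_root_eq {t : Ω} (ht : t ^ r = 1) (h1 : t ≠ 1) : ∃ a : (ZMod r)ˣ, root ζ a = t := by
  haveI : NeZero r := ⟨(Fact.out : r.Prime).ne_zero⟩
  have hprim : IsPrimitiveRoot ζ r := hζ ▸ IsPrimitiveRoot.orderOf ζ
  obtain ⟨i, hi, rfl⟩ := hprim.eq_pow_of_pow_eq_one ht
  have hi0 : (i : ZMod r) ≠ 0 := fun h => h1 (by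
    rw [← pow_zero ζ, pow_eq_iff hζ, h, Nat.cast_zero])
  exact ⟨Units.mk0 _ hi0, by rw [root, Units.val_mk0, pow_eq_iff hζ, ZMod.natCast_zmod_val]⟩

theorem root_mul_pow (a b : (ZMod r)ˣ) (j : ℕ) (hj : (j : ZMod r) = (b : ZMod r)) :
    root ζ a ^ j = root ζ (a * b) := by
  rw [root, root, ← pow_mul, pow_eq_iff hζ, Nat.cast_mul, ZMod.natCast_zmod_val, ZMod.natCast_zmod_val, hj,
    Units.val_mul]

theorem root_neg (a : (ZMod r)ˣ) : root ζ (a * -1) = (root ζ a)⁻¹ := by
  refine eq_inv_of_mul_eq_one_left ?_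
  rw [root, root, ← pow_add, ← pow_zero ζ, pow_eq_iff hζ, Nat.cast_add, ZMod.natCast_zmod_val,
    ZMod.natCast_zmod_val, Nat.cast_zero]
  simp

/-- The multiplicities of the roots of unity among `R` have bounded total. -/
theorem sum_count_le [DecidableEq Ω] (R : Multiset Ω) :
    ∑ a : (ZMod r)ˣ, R.count (root ζ a) ≤ Multiset.card R := by
  rw [← Finset.sum_image (f := fun t => R.count t) fun x _ y _ h => root_injective hζ h]
  calc ∑ t ∈ Finset.univ.image (root (r := r) ζ), R.count t
      ≤ ∑ t ∈ R.toFinset ∪ Finset.univ.image (root (r := r) ζ), R.count t :=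
        Finset.sum_le_sum_of_subset Finset.subset_union_right
    _ = Multiset.card R := Multiset.sum_count_eq_card fun a ha =>
        Finset.mem_union_left _ (Multiset.mem_toFinset.2 ha)

/-- A multiset of `r`-th roots of unity is determined by its size and its nontrivial multiplicities. -/
theorem eq_of_count [DecidableEq Ω] {R S : Multiset Ω} (hR : ∀ t ∈ R, t ^ r = 1) (hS : ∀ t ∈ S, t ^ r = 1)
    (hc : Multiset.card R = Multiset.card S) (h : ∀ a : (ZMod r)ˣ, R.count (root ζ a) = S.count (root ζ a)) :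
    R = S := by
  have hne : ∀ t, t ≠ 1 → R.count t = S.count t := fun t ht => by
    by_cases htr : t ^ r = 1
    · obtain ⟨a, rfl⟩ := exists_root_eq hζ htr ht
      exact h a
    · rw [Multiset.count_eq_zero.2 fun hm => htr (hR t hm), Multiset.count_eq_zero.2 fun hm => htr (hS t hm)]
  refine Multiset.ext.2 fun t => ?_
  rcases eq_or_ne t 1 with rfl | ht
  · have e : ∀ T : Multiset Ω, T.count 1 + Multiset.card (T.filter fun t => t ≠ 1) = Multiset.card T := fun T => by
      conv_rhs => rw [← Multiset.filter_add_not (fun t => t = 1) T, Multiset.card_add]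
      rw [Multiset.filter_eq', Multiset.card_replicate]
    have e' : R.filter (fun t => t ≠ 1) = S.filter fun t => t ≠ 1 := Multiset.ext.2 fun t => by
      simp only [Multiset.count_filter]
      split_ifs with ht
      · exact hne t ht
      · rfl
    have := e R
    have := e S
    rw [e'] at *
    omega
  · exact hne t ht

omit hζ in
/-- Frobenius and inversion stable multiplicities are constant on cosets. -/
theorem invariant_of_generators {f : (ZMod r)ˣ → ℕ} {w : (ZMod r)ˣ}
    (hw : ∀ a, f (a * w) = f a) : ∀ a, ∀ h ∈ Subgroup.zpowers w, f (a * h) = f a := by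
  have hp : ∀ (i : ℕ) a, f (a * w ^ i) = f a := by
    intro i
    induction i with
    | zero => simp
    | succ i ih => intro a; rw [pow_succ, ← mul_assoc, hw, ih]
  intro a h hh
  obtain ⟨i, rfl⟩ := (Submonoid.mem_powers_iff _ _).1 (mem_powers_iff_mem_zpowers.2 hh)
  exact hp i a

end CfsgLib.SemisimplePrimeClasses
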